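import Mathlib
import Cfsg.Agent.Blocks.CentralSylow
import Cfsg.Agent.Transfer.TateComplement
import Cfsg.Agent.S0087
set_option linter.all false

/-!
# Centralizers of `p`-elements with Sylow `p`-subgroup of order at most `p²`
-/

set_option autoImplicit false

namespace Cfsg.Agent.H627.LocalStructure

variable {G : Type*} [Group G]

/-- A normal `p`-subgroup is contained in every Sylow `p`-subgroup. -/
theorem normal_le_sylow [Finite G] {p : ℕ} [Fact p.Prime] (N : Subgroup G) [N.Normal]
    (hN : IsPGroup p N) (P : Sylow p G) : N ≤ P := by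
  have h1 : IsPGroup p ↥(N ⊔ (P : Subgroup G)) := hN.to_sup_of_normal_left P.2
  have h2 := P.3 h1 le_sup_right
  rw [← h2]
  exact le_sup_left

/-- The centralizer as seen by its Sylow subgroup generated by the element. -/
theorem exists_compl [Finite G] {p : ℕ} [Fact p.Prime] (x : G) {k : ℕ} (hx : orderOf x = p ^ k)
    (hk : (Nat.card (Subgroup.centralizer ({x} : Set G))).factorization p = k) :
    ∃ L : Subgroup G, (∀ y, y ∈ L ↔ y ∈ Subgroup.centralizer ({x} : Set G) ∧ ¬ p ∣ orderOf y) ∧
      Nat.card (Subgroup.centralizer ({x} : Set G)) = p ^ k * Nat.card L := by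
  classical
  set C := Subgroup.centralizer ({x} : Set G) with hC
  set z : C := ⟨x, Subgroup.mem_centralizer_singleton_iff.2 rfl⟩ with hz
  have hzc : z ∈ Subgroup.center C := by
    rw [Subgroup.mem_center_iff]
    intro g
    exact Subtype.ext (Subgroup.mem_centralizer_singleton_iff.1 g.2)
  have hzc' : Subgroup.zpowers z ≤ Subgroup.center C := by
    rwa [Subgroup.zpowers_le]
  have hzo : orderOf z = p ^ k := by
    rw [← hx, ← Subgroup.orderOf_coe]
  obtain ⟨Q⟩ : Nonempty (Sylow p C) := inferInstance
  have hn : (Subgroup.zpowers z).Normal := ⟨fun n hn g => by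
    have h1 := Subgroup.mem_center_iff.1 (hzc' hn) g
    rw [h1]; simpa using hn⟩
  have hzp : IsPGroup p (Subgroup.zpowers z) := by
    apply IsPGroup.of_card (n := k)
    rw [Nat.card_zpowers, hzo]
  have hle : Subgroup.zpowers z ≤ (Q : Subgroup C) := normal_le_sylow _ hzp Q
  have hQ : Nat.card Q = p ^ k := by
    rw [Q.card_eq_multiplicity, hk]
  have hQz : Subgroup.zpowers z = (Q : Subgroup C) := by
    apply Subgroup.eq_of_le_of_card_ge hle
    rw [Nat.card_zpowers, hzo]
    exact hQ.le
  obtain ⟨K, hKn, hKi, hKc, hKm⟩ := Cfsg.Agent.Blocks.CentralSylow.exists_complement Q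
    (hQz ▸ hzc')
  refine ⟨K.map C.subtype, ?_, ?_⟩
  · intro y
    constructor
    · rintro ⟨y, hy, rfl⟩
      refine ⟨y.2, ?_⟩
      have h1 := (hKm y).1 hy
      rwa [← Subgroup.orderOf_coe] at h1
    · rintro ⟨hy, hy'⟩
      refine ⟨⟨y, hy⟩, ?_, rfl⟩
      refine (hKm _).2 ?_
      rwa [← Subgroup.orderOf_coe]
  · have h1 : Nat.card (K.map C.subtype) = Nat.card K :=
      (Nat.card_congr (Subgroup.equivMapOfInjective _ _ (Subgroup.subtype_injective C)).toEquiv).symm
    rw [h1, ← Subgroup.card_mul_index K, hKi, hQ, mul_comm]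

/-- The elements of order prime to `p` of a group with a homomorphism to the group of order `p`. -/
theorem map_eq_one {C : Type*} [Group C] {p : ℕ} [Fact p.Prime]
    (V : C →* Multiplicative (ZMod p)) (y : C) (hy : ¬ p ∣ orderOf y) : V y = 1 := by
  have hp : p.Prime := Fact.out
  have h1 : orderOf (V y) ∣ orderOf y := orderOf_map_dvd V y
  have h2 : orderOf (V y) ∣ p := by
    have := orderOf_dvd_natCard (V y)
    rwa [Nat.card_eq_fintype_card, Fintype.card_multiplicative, ZMod.card] at this
  rcases (Nat.dvd_prime hp).1 h2 with h | h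
  · exact orderOf_eq_one_iff.1 h
  · exact absurd (h ▸ h1) hy

/-- A central element of order `p` of a group with elementary abelian Sylow `p`-subgroup of order
`p²` is not in the kernel of some homomorphism to the group of order `p`. -/
theorem exists_hom {C : Type*} [Group C] [Finite C] {p : ℕ} [hpf : Fact p.Prime] (Q : Sylow p C)
    (hQ : Nat.card Q = p ^ 2) (hexp : ∀ y ∈ Q, y ^ p = 1) (z : C) (hz : z ∈ Subgroup.center C)
    (hzo : orderOf z = p) : ∃ V : C →* Multiplicative (ZMod p), V z ≠ 1 := by
  classical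
  have hp : p.Prime := Fact.out
  have hzc' : Subgroup.zpowers z ≤ Subgroup.center C := by
    rwa [Subgroup.zpowers_le]
  have hn : (Subgroup.zpowers z).Normal := ⟨fun n hn g => by
    have h1 := Subgroup.mem_center_iff.1 (hzc' hn) g
    rw [h1]; simpa using hn⟩
  have hzp : IsPGroup p (Subgroup.zpowers z) := by
    apply IsPGroup.of_card (n := 1)
    rw [Nat.card_zpowers, hzo, pow_one]
  have hle : Subgroup.zpowers z ≤ (Q : Subgroup C) := normal_le_sylow _ hzp Q
  have hzQ : z ∈ (Q : Subgroup C) := hle (Subgroup.mem_zpowers z)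
  have hcomm := IsPGroup.isMulCommutative_of_card_eq_prime_sq hQ
  -- an element outside `⟨z⟩`
  obtain ⟨w, hwQ, hwz⟩ : ∃ w ∈ (Q : Subgroup C), w ∉ Subgroup.zpowers z := by
    by_contra hcon
    push Not at hcon
    have h1 : (Q : Subgroup C) ≤ Subgroup.zpowers z := fun w hw => hcon w hw
    have h2 := Subgroup.card_le_of_le h1
    rw [Nat.card_zpowers, hzo] at h2
    have h3 : Nat.card (Q : Subgroup C) = p ^ 2 := hQ
    rw [h3] at h2
    have h4 := hp.one_lt
    nlinarith
  set w' : Q := ⟨w, hwQ⟩ with hw'
  set z' : Q := ⟨z, hzQ⟩ with hz'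
  have hw1 : w' ≠ 1 := by
    intro h
    apply hwz
    have : w = 1 := congrArg Subtype.val h
    rw [this]
    exact Subgroup.one_mem _
  have hwo : orderOf w' = p := by
    apply orderOf_eq_prime _ hw1
    exact Subtype.ext (hexp w hwQ)
  have hwn : (Subgroup.zpowers w').Normal := ⟨fun n hn g => by
    have h1 : g * n = n * g := hcomm.is_comm.comm g n
    rw [h1]; simpa using hn⟩
  have hcardq : Nat.card (Q ⧸ Subgroup.zpowers w') = p := by
    have h1 := Subgroup.card_mul_index (Subgroup.zpowers w')
    have hQ' : Nat.card ↥Q = p ^ 2 := hQ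
    rw [Nat.card_zpowers, hwo, hQ'] at h1
    have h2 : Nat.card (Q ⧸ Subgroup.zpowers w') = (Subgroup.zpowers w').index := rfl
    rw [h2]
    apply Nat.eq_of_mul_eq_mul_left hp.pos
    rw [h1]; ring
  have hcardz : Nat.card (Multiplicative (ZMod p)) = p := by
    rw [Nat.card_eq_fintype_card, Fintype.card_multiplicative, ZMod.card]
  let φ : (Q ⧸ Subgroup.zpowers w') ≃* Multiplicative (ZMod p) := mulEquivOfPrimeCardEq hcardq hcardz
  let ϕ : Q →* Multiplicative (ZMod p) := φ.toMonoidHom.comp (QuotientGroup.mk' _)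
  have hϕz : ϕ z' ≠ 1 := by
    intro h
    have h1 : (QuotientGroup.mk z' : Q ⧸ Subgroup.zpowers w') = 1 := by
      have h2 : φ (QuotientGroup.mk z') = 1 := h
      exact (MulEquiv.map_eq_one_iff φ).1 h2
    rw [QuotientGroup.eq_one_iff] at h1
    -- then `w ∈ ⟨z⟩`
    apply hwz
    have h3 : Subgroup.zpowers z' = Subgroup.zpowers w' := by
      apply Subgroup.eq_of_le_of_card_ge
      · rwa [Subgroup.zpowers_le]
      · rw [Nat.card_zpowers, Nat.card_zpowers, hwo, ← Subgroup.orderOf_coe, hz', hzo]
    have h4 : w' ∈ Subgroup.zpowers z' := h3 ▸ Subgroup.mem_zpowers w'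
    obtain ⟨n, hn⟩ := Subgroup.mem_zpowers_iff.1 h4
    exact Subgroup.mem_zpowers_iff.2 ⟨n, by
      have := congrArg Subtype.val hn
      simpa using this⟩
  refine ⟨MonoidHom.transfer ϕ, ?_⟩
  have hkey : ∀ t : C, ∃ h : t⁻¹ * z * t ∈ (Q : Subgroup C), ϕ ⟨t⁻¹ * z * t, h⟩ = ϕ ⟨z, hzQ⟩ := by
    intro t
    have h1 : t⁻¹ * z * t = z := by
      have h2 := Subgroup.mem_center_iff.1 hz t
      rw [mul_assoc, ← h2]; group
    refine ⟨by rw [h1]; exact hzQ, ?_⟩
    congr 1
    exact Subtype.ext h1
  rw [Cfsg.Agent.Transfer.TateComplement.transfer_eq_pow_of_conj (Q : Subgroup C) ϕ z hzQ hkey]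
  intro h
  have h1 : orderOf (ϕ z') ∣ (Q : Subgroup C).index := orderOf_dvd_of_pow_eq_one h
  have h2 : orderOf (ϕ z') ∣ p := by
    have := orderOf_dvd_natCard (ϕ z')
    rwa [hcardz] at this
  rcases (Nat.dvd_prime hp).1 h2 with h3 | h3
  · exact hϕz (orderOf_eq_one_iff.1 h3)
  · rw [h3] at h1
    exact Q.not_dvd_index h1

/-- The kernel of a nontrivial homomorphism to the group of order `p` has index `p`. -/
theorem card_ker {C : Type*} [Group C] [Finite C] {p : ℕ} [Fact p.Prime]
    (V : C →* Multiplicative (ZMod p)) (z : C) (hz : V z ≠ 1) :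
    Nat.card C = p * Nat.card V.ker := by
  have hp : p.Prime := Fact.out
  have hcardz : Nat.card (Multiplicative (ZMod p)) = p := by
    rw [Nat.card_eq_fintype_card, Fintype.card_multiplicative, ZMod.card]
  have h1 : Nat.card V.range ∣ p := by
    have := Subgroup.card_subgroup_dvd_card V.range
    rwa [hcardz] at this
  have h2 : Nat.card V.range ≠ 1 := by
    intro h
    have h3 := Subgroup.card_eq_one.1 h
    have h4 : V z ∈ V.range := ⟨z, rfl⟩
    rw [h3, Subgroup.mem_bot] at h4
    exact hz h4
  have h3 : Nat.card V.range = p := ((Nat.dvd_prime hp).1 h1).resolve_left h2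
  rw [← Subgroup.card_mul_index V.ker, Subgroup.index_ker, h3, mul_comm]

/-- **The local structure.** -/
theorem exists_local [Finite G] {p : ℕ} [Fact p.Prime] (x : G) (hx : ∃ k : ℕ, orderOf x = p ^ k)
    (hx1 : x ≠ 1)
    (hc : (Nat.card (Subgroup.centralizer ({x} : Set G))).factorization p ≤ 2) :
    ∃ x' : G, (∃ k : ℕ, orderOf x' = p ^ k) ∧
      ((∃ L : Subgroup G,
          (∀ y, y ∈ L ↔ y ∈ Subgroup.centralizer ({x'} : Set G) ∧ ¬ p ∣ orderOf y) ∧
          Nat.card (Subgroup.centralizer ({x'} : Set G)) ≤ p ^ 2 * Nat.card L) ∨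
        (p ≠ 2 ∧ orderOf x' = p ∧ ∃ K : Subgroup G, K ≤ Subgroup.centralizer ({x'} : Set G) ∧
          (∀ y ∈ Subgroup.centralizer ({x'} : Set G), ¬ p ∣ orderOf y → y ∈ K) ∧ x' ∉ K ∧
          Nat.card (Subgroup.centralizer ({x'} : Set G)) = p * Nat.card K ∧
          (Nat.card K).factorization p = 1)) := by
  classical
  have hp : p.Prime := Fact.out
  obtain ⟨k, hk⟩ := hx
  set C := Subgroup.centralizer ({x} : Set G) with hC
  set v := (Nat.card C).factorization p with hv
  have hxC : x ∈ C := Subgroup.mem_centralizer_singleton_iff.2 rfl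
  set z : C := ⟨x, hxC⟩ with hz
  have hzo : orderOf z = p ^ k := by rw [← hk, ← Subgroup.orderOf_coe]
  have hzc : z ∈ Subgroup.center C := by
    rw [Subgroup.mem_center_iff]
    intro g
    exact Subtype.ext (Subgroup.mem_centralizer_singleton_iff.1 g.2)
  have hCpos : Nat.card C ≠ 0 := Nat.card_pos.ne'
  have hkv : k ≤ v := by
    rw [hv, ← hp.pow_dvd_iff_le_factorization hCpos, ← hzo]
    exact orderOf_dvd_natCard z
  have hk0 : k ≠ 0 := by
    intro h
    rw [h, pow_zero, orderOf_eq_one_iff] at hk
    exact hx1 hk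
  by_cases hkv' : k = v
  · -- `⟨x⟩` is a Sylow subgroup of `C`
    obtain ⟨L, hL, hLc⟩ := exists_compl x hk (by rw [hkv'])
    refine ⟨x, ⟨k, hk⟩, Or.inl ⟨L, hL, ?_⟩⟩
    rw [hLc]
    exact Nat.mul_le_mul_right _ (Nat.pow_le_pow_right hp.pos (by omega))
  have hk1 : k = 1 := by omega
  have hv2 : v = 2 := by omega
  obtain ⟨Q⟩ : Nonempty (Sylow p C) := inferInstance
  have hQ : Nat.card Q = p ^ 2 := by rw [Q.card_eq_multiplicity, ← hv, hv2]
  have hzc' : Subgroup.zpowers z ≤ Subgroup.center C := by
    rwa [Subgroup.zpowers_le]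
  have hn : (Subgroup.zpowers z).Normal := ⟨fun n hn g => by
    have h1 := Subgroup.mem_center_iff.1 (hzc' hn) g
    rw [h1]; simpa using hn⟩
  have hzp : IsPGroup p (Subgroup.zpowers z) := by
    apply IsPGroup.of_card (n := k)
    rw [Nat.card_zpowers, hzo]
  have hle : Subgroup.zpowers z ≤ (Q : Subgroup C) := normal_le_sylow _ hzp Q
  have hzQ : z ∈ (Q : Subgroup C) := hle (Subgroup.mem_zpowers z)
  by_cases hexp : ∀ y ∈ (Q : Subgroup C), y ^ p = 1
  · -- elementary abelian
    obtain ⟨V, hV⟩ := exists_hom Q hQ hexp z hzc (by rw [hzo, hk1, pow_one])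
    have hcard := card_ker V z hV
    have hKmap : Nat.card (V.ker.map C.subtype) = Nat.card V.ker :=
      (Nat.card_congr (Subgroup.equivMapOfInjective _ _ (Subgroup.subtype_injective C)).toEquiv).symm
    have hfac : (Nat.card V.ker).factorization p = 1 := by
      have h1 : (Nat.card C).factorization p = 2 := by rw [← hv, hv2]
      rw [hcard, Nat.factorization_mul hp.ne_zero Nat.card_pos.ne', Finsupp.add_apply,
        hp.factorization_self] at h1
      omega
    by_cases hp2 : p = 2
    · -- a normal `2`-complement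
      obtain ⟨R⟩ : Nonempty (Sylow p V.ker) := inferInstance
      have hR : Nat.card R = p := by rw [R.card_eq_multiplicity, hfac, pow_one]
      have hnc : Subgroup.normalizer ((R : Subgroup V.ker) : Set V.ker) ≤
          Subgroup.centralizer ((R : Subgroup V.ker) : Set V.ker) := by
        intro g hg
        rw [Subgroup.mem_centralizer_iff]
        intro r hr
        by_cases hr1 : r = 1
        · rw [hr1, one_mul, mul_one]
        · have h1 : g * r * g⁻¹ ∈ (R : Subgroup V.ker) :=
            (Subgroup.mem_normalizer_iff.1 hg r).1 hr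
          have h2 : g * r * g⁻¹ = r := by
            have h3 : g * r * g⁻¹ ≠ 1 := by
              intro h
              apply hr1
              rw [mul_inv_eq_one, mul_eq_left] at h
              exact h
            have h4 : Nat.card R = 2 := by rw [hR, hp2]
            have h5 := (Nat.card_eq_two_iff' (1 : R)).1 h4
            obtain ⟨c, hc1, hc2⟩ := h5
            have h6 := hc2 ⟨r, hr⟩ (fun h => hr1 (congrArg Subtype.val h))
            have h7 := hc2 ⟨_, h1⟩ (fun h => h3 (congrArg Subtype.val h))
            have h8 := h7.trans h6.symm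
            exact congrArg Subtype.val h8
          have h9 : g * r = r * g := by
            rw [mul_inv_eq_iff_eq_mul] at h2
            exact h2
          exact h9.symm
      obtain ⟨N, hNn, hNc⟩ := Cfsg.Agent.S0087.result (R : Subgroup V.ker)
        R.card_coprime_index hnc
      have hNi : N.index = p ^ 1 := by
        rw [hNc.symm.index_eq_card, pow_one]; exact hR
      have hcop : (Nat.card N).Coprime p := by
        have h1 := hNc.card_mul_card
        have h2 : Nat.card N = (R : Subgroup V.ker).index := by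
          have h3 := Subgroup.card_mul_index (R : Subgroup V.ker)
          rw [← h1, mul_comm] at h3
          exact (Nat.eq_of_mul_eq_mul_right Nat.card_pos h3).symm
        rw [h2]
        exact ((Nat.Prime.coprime_iff_not_dvd hp).mpr R.not_dvd_index).symm
      have hmem := Cfsg.Agent.Blocks.CentralSylow.mem_iff_of_index hp N hNi hcop
      refine ⟨x, ⟨k, hk⟩, Or.inl ⟨(N.map V.ker.subtype).map C.subtype, ?_, ?_⟩⟩
      · intro y
        constructor
        · rintro ⟨_, ⟨y, hy, rfl⟩, rfl⟩
          refine ⟨(y : C).2, ?_⟩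
          have h1 := (hmem y).1 hy
          rwa [← Subgroup.orderOf_coe, ← Subgroup.orderOf_coe] at h1
        · rintro ⟨hy, hy'⟩
          have h1 : ¬ p ∣ orderOf (⟨y, hy⟩ : C) := by rwa [← Subgroup.orderOf_coe]
          have h2 : (⟨y, hy⟩ : C) ∈ V.ker := map_eq_one V _ h1
          have h3 : (⟨⟨y, hy⟩, h2⟩ : V.ker) ∈ N := by
            rw [hmem, ← Subgroup.orderOf_coe]
            exact h1
          exact ⟨_, ⟨_, h3, rfl⟩, rfl⟩
      · have h1 : Nat.card ((N.map V.ker.subtype).map C.subtype) = Nat.card N := by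
          rw [← Nat.card_congr (Subgroup.equivMapOfInjective _ _
              (Subgroup.subtype_injective C)).toEquiv,
            ← Nat.card_congr (Subgroup.equivMapOfInjective _ _
              (Subgroup.subtype_injective V.ker)).toEquiv]
        rw [h1, hcard, ← Subgroup.card_mul_index N, hNi]
        apply le_of_eq
        ring
    · refine ⟨x, ⟨k, hk⟩, Or.inr ⟨hp2, by rw [hk, hk1, pow_one], V.ker.map C.subtype, ?_, ?_, ?_,
        ?_, ?_⟩⟩
      · rintro _ ⟨y, _, rfl⟩
        exact y.2
      · intro y hy hy'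
        refine ⟨⟨y, hy⟩, ?_, rfl⟩
        exact map_eq_one V _ (by rwa [← Subgroup.orderOf_coe])
      · rintro ⟨y, hy, hyx⟩
        apply hV
        have h1 : y = z := Subtype.ext hyx
        rw [← h1]
        exact hy
      · rw [hKmap]; exact hcard
      · rw [hKmap]; exact hfac
  · -- an element of order `p²`
    push Not at hexp
    obtain ⟨y, hy, hyp⟩ := hexp
    have hyo : orderOf y = p ^ 2 := by
      have h1 : orderOf y ∣ p ^ 2 := by
        rw [← hQ]
        have := orderOf_dvd_natCard (⟨y, hy⟩ : Q)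
        rwa [← Subgroup.orderOf_coe] at this
      obtain ⟨j, hj, hj'⟩ := (Nat.dvd_prime_pow hp).1 h1
      interval_cases j
      · exfalso
        rw [pow_zero, orderOf_eq_one_iff] at hj'
        apply hyp
        rw [hj', one_pow]
      · exfalso
        apply hyp
        rw [pow_one] at hj'
        rw [← hj']
        exact pow_orderOf_eq_one y
      · exact hj'
    have hyQ : Subgroup.zpowers y = (Q : Subgroup C) := by
      apply Subgroup.eq_of_le_of_card_ge
      · rwa [Subgroup.zpowers_le]
      · rw [Nat.card_zpowers, hyo]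
        exact hQ.le
    have hzy : z ∈ Subgroup.zpowers y := by rw [hyQ]; exact hzQ
    obtain ⟨n, hn⟩ := Subgroup.mem_zpowers_iff.1 hzy
    have hxy : (y : G) ^ n = x := by
      have := congrArg Subtype.val hn
      simpa using this
    have hle' : Subgroup.centralizer ({(y : G)} : Set G) ≤ C := by
      intro g hg
      rw [Subgroup.mem_centralizer_singleton_iff] at hg
      have h1 : Commute g (y : G) := hg
      have h2 := h1.zpow_right n
      rw [hxy] at h2
      exact Subgroup.mem_centralizer_singleton_iff.2 h2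
    have hyo' : orderOf (y : G) = p ^ 2 := by rw [Subgroup.orderOf_coe]; exact hyo
    have hfac : (Nat.card (Subgroup.centralizer ({(y : G)} : Set G))).factorization p = 2 := by
      apply le_antisymm
      · have h1 : Nat.card (Subgroup.centralizer ({(y : G)} : Set G)) ∣ Nat.card C :=
          Subgroup.card_dvd_of_le hle'
        have h2 := (Nat.factorization_le_iff_dvd Nat.card_pos.ne' hCpos).2 h1 p
        exact h2.trans (by rw [← hv, hv2])
      · rw [← hp.pow_dvd_iff_le_factorization Nat.card_pos.ne', ← hyo']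
        have h1 : (y : G) ∈ Subgroup.centralizer ({(y : G)} : Set G) :=
          Subgroup.mem_centralizer_singleton_iff.2 rfl
        have := orderOf_dvd_natCard (⟨(y : G), h1⟩ : Subgroup.centralizer ({(y : G)} : Set G))
        rwa [← Subgroup.orderOf_coe] at this
    obtain ⟨L, hL, hLc⟩ := exists_compl (y : G) hyo' hfac
    exact ⟨y, ⟨2, hyo'⟩, Or.inl ⟨L, hL, hLc.le⟩⟩

end Cfsg.Agent.H627.LocalStructure
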