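import Mathlib
import Cfsg.Agent.H634.HypS
import Cfsg.Agent.H634.Fus
import Cfsg.Agent.H633.Principal
import Cfsg.Agent.J3Type.CharTools
import Cfsg.Agent.S0907
import Cfsg.Agent.S0947
import Cfsg.Agent.Lib.Cores
import Cfsg.Agent.H40.GGFpf
import Cfsg.Agent.H634.Quot
import Cfsg.Agent.S4626
import Cfsg.Agent.H634.Cols
import Cfsg.Agent.S4551
import Cfsg.Agent.S0915
import Cfsg.Agent.Blocks.BlockKer
import Cfsg.Agent.FastGrp
import Cfsg.Agent.Prune
set_option linter.all false

section
prune_inst 0x7f00000000000000000000000000000000000000000000000000000000000000000000000000000000000000000000000000000000000000000000000000000000000000000000000000000000000000003fffffffffffffffffffffffffffbeffbdffffffff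

-- part: H634/Simple
section
set_option linter.all false
open scoped Cfsg.Agent.FastGrp

-- part: H634/Ari
section
/-!
# The column of a nontrivial `p`-element in the principal block
-/

set_option autoImplicit false

open Cfsg
open scoped ComplexConjugate

namespace Cfsg.Agent.H634.Ari

open Cfsg.Agent.H634.ZJ Cfsg.Agent.H634.Fus Cfsg.Agent.H634.HypS

variable {G : Type*} [Group G] [Finite G] {p : ℕ} [hp : Fact p.Prime] {M : Ideal AlgInt}

theorem index_core {X : Type*} [Group X] [Finite X] (h : HasNormalPComplement p X) :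
    ∃ k : ℕ, (pPrimeCore p X).index = p ^ k := by
  obtain ⟨N, hN, hpN, k, hk⟩ := OddOrderLocal.NilpotentQuotient.exists_of_hasNormalPComplement h
  have h1 : N ≤ pPrimeCore p X := Lib.Cores.le_pPrimeCore hN
    ((Nat.Prime.coprime_iff_not_dvd hp.out).2 hpN).symm
  obtain ⟨j, -, hj⟩ := (Nat.dvd_prime_pow hp.out).1 (hk ▸ Subgroup.index_dvd_of_le h1)
  exact ⟨j, hj⟩

omit hp in
/-- The values at `x` are integers. -/
theorem exists_int (hC : OneClass p G) {x : G} (hx : PEl p x) (hx1 : x ≠ 1) (χ : IrrCharacter G) :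
    ∃ k : ℤ, (χ : G → ℂ) x = k := by
  refine J3Type.CharTools.int_of_conj (Characters.Core.isIrr_isCharacter χ.2) x fun m hm => ?_
  have h2 : orderOf (x ^ m) = orderOf x := (Nat.Coprime.orderOf_pow hm.symm)
  have h1 : x ^ m ≠ 1 := by
    intro h0
    rw [h0, orderOf_one] at h2
    exact hx1 (orderOf_eq_one_iff.1 h2.symm)
  obtain ⟨k, hk⟩ := hx
  exact hC x (x ^ m) ⟨k, hk⟩ hx1 ⟨k, by rw [h2, hk]⟩ h1

/-- `∑ χ(x)² = |P|` and `∑ χ(x) χ(1) = 0` over the principal block. -/
theorem data (hM : IsPModular p M) (hN : NilCent p G) (hC : OneClass p G) (P : Sylow p G) {x : G}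
    (hxP : x ∈ P) (hx1 : x ≠ 1) (hxc : ∀ y ∈ P, x * y = y * x)
    (B : Finset (IrrCharacter G)) (hB : ∀ χ, χ ∈ B ↔ χ ∈ principalBlock M G) :
    ∃ a : IrrCharacter G → ℤ, (∀ χ : IrrCharacter G, (χ : G → ℂ) x = a χ) ∧
      ∑ χ ∈ B, (a χ) ^ 2 = Nat.card P ∧ ∑ χ ∈ B, a χ * (charDegree (χ : G → ℂ) : ℤ) = 0 := by
  classical
  have hx : PEl p x := PEl.of_mem P.isPGroup' hxP
  choose a ha using exists_int hC hx hx1
  refine ⟨a, ha, ?_, ?_⟩
  · have hcent := index_core (hN x hx hx1)
    have h1 := (S0947.result p M hM x hx hx1 1 (by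
      rw [orderOf_one]
      exact hp.out.one_lt.ne' ∘ Nat.dvd_one.1)).2 hcent
    have h2 : ∑ᶠ ζ ∈ principalBlock M G, ‖(ζ : G → ℂ) (x *
        ((1 : Subgroup.centralizer ({x} : Set G)) : G))‖ ^ 2 = ∑ χ ∈ B, ((a χ : ℤ) : ℝ) ^ 2 := by
      rw [finsum_mem_eq_sum_of_inter_support_eq (t := B)]
      · refine Finset.sum_congr rfl fun χ _ => ?_
        rw [Subgroup.coe_one, mul_one, ha]
        rw [Complex.norm_intCast, sq_abs]
      · congr 1
        ext χ
        exact (hB χ).symm
    rw [h2] at h1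
    -- the order of the centralizer
    set C := Subgroup.centralizer ({x} : Set G) with hCd
    have hPC : (P : Subgroup G) ≤ C := by
      intro y hy
      rw [hCd, Subgroup.mem_centralizer_singleton_iff]
      exact (hxc y hy).symm
    have h3 : (Nat.card C).factorization p = (Nat.card G).factorization p := by
      apply le_antisymm
      · exact (Nat.factorization_le_iff_dvd Nat.card_pos.ne' Nat.card_pos.ne').2
          (Subgroup.card_subgroup_dvd_card C) p
      · have h4 : Nat.card P = p ^ (Nat.card G).factorization p := P.card_eq_multiplicity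
        have h5 : p ^ (Nat.card G).factorization p ∣ Nat.card C := by
          rw [← h4]
          exact Subgroup.card_dvd_of_le hPC
        exact (hp.out.pow_dvd_iff_le_factorization Nat.card_pos.ne').1 h5
    rw [h3] at h1
    have h4 : Nat.card P = p ^ (Nat.card G).factorization p := P.card_eq_multiplicity
    rw [h4]
    exact_mod_cast h1
  · have hxp : p ∣ orderOf x := by
      obtain ⟨k, hk⟩ := hx
      rcases Nat.eq_zero_or_pos k with rfl | hk0
      · rw [pow_zero, orderOf_eq_one_iff] at hk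
        exact absurd hk hx1
      · rw [hk]; exact dvd_pow_self p hk0.ne'
    have hMp : M.IsPrime := hM.2.1.isPrime
    have h1 := S0907.result p M hM (principalBlock M G)
      Blocks.PrincipalSection.isPBlock_principalBlock 1 x (by
        rw [orderOf_one]
        exact hp.out.one_lt.ne' ∘ Nat.dvd_one.1) hxp
    have h2 : ∑ᶠ χ ∈ principalBlock M G, (χ : G → ℂ) 1 * conj ((χ : G → ℂ) x) =
        ∑ χ ∈ B, ((a χ * (charDegree (χ : G → ℂ) : ℤ) : ℤ) : ℂ) := by
      rw [finsum_mem_eq_sum_of_inter_support_eq (t := B)]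
      · refine Finset.sum_congr rfl fun χ _ => ?_
        rw [ha, Blocks.Basic.irr_one_eq_charDegree χ.2, map_intCast]
        push_cast
        ring
      · congr 1
        ext χ
        exact (hB χ).symm
    rw [h2] at h1
    exact_mod_cast h1

end Cfsg.Agent.H634.Ari
end

-- part: H634/Index
section
/-!
# Normal subgroups containing `C_G(P)` have index at most two
-/

set_option autoImplicit false

open Cfsg

namespace Cfsg.Agent.H634.Index

open Cfsg.Agent.H634.ZJ Cfsg.Agent.H634.Fus Cfsg.Agent.H634.HypS H633.Principal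

variable {G : Type*} [Group G] [Finite G] {p : ℕ} [hp : Fact p.Prime] {M : Ideal AlgInt}

/-- The number of irreducible characters with kernel containing `N`. -/
theorem card_filter (N : Subgroup G) [N.Normal] [Fintype (IrrCharacter G)]
    (A : Finset (IrrCharacter G))
    (hA : ∀ χ, χ ∈ A ↔ ∀ n ∈ N, (χ : G → ℂ) n = (χ : G → ℂ) 1) :
    A.card = Nat.card (ConjClasses (G ⧸ N)) := by
  rw [← Characters.Core.card_irr]
  have h1 : Set.range (infl N) = (A : Set (IrrCharacter G)) := by
    ext χ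
    rw [Finset.mem_coe, hA]
    constructor
    · rintro ⟨χ', rfl⟩ n hn
      rw [infl_apply, infl_apply, (QuotientGroup.eq_one_iff n).2 hn]
      rfl
    · intro h
      obtain ⟨χ', hχ'⟩ := exists_infl N χ h
      exact ⟨χ', hχ'.symm⟩
  rw [← Nat.card_range_of_injective (Quot.infl_injective N), h1]
  simp only [_root_.SetLike.coe_sort_coe, _root_.Nat.card_eq_fintype_card, _root_.Fintype.card_coe]

theorem index_le_two (hM : IsPModular p M) (P : Sylow p G) {q : ℕ} (hodd : Odd q)
    (h27 : 27 ≤ q) {x : G} (B : Finset (IrrCharacter G))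
    (hB : ∀ χ, χ ∈ B ↔ χ ∈ principalBlock M G) (hcard : B.card ≤ 4) (a : IrrCharacter G → ℤ)
    (ha : ∀ χ : IrrCharacter G, (χ : G → ℂ) x = a χ) (h1 : ∑ χ ∈ B, (a χ) ^ 2 = q)
    (h2 : ∑ χ ∈ B, a χ * (charDegree (χ : G → ℂ) : ℤ) = 0) (H : Subgroup G) [hHn : H.Normal]
    (hPC : Subgroup.centralizer ((P : Subgroup G) : Set G) ≤ H) (hxH : x ∈ H)
    (hidx : ¬ p ∣ H.index) : H.index ≤ 2 := by
  classical
  have := Fintype.ofFinite G
  have : Finite (IrrCharacter G) := Characters.Core.finite_irr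
  have := Fintype.ofFinite (IrrCharacter G)
  set A : Finset (IrrCharacter G) := Finset.univ.filter
    (fun χ : IrrCharacter G => ∀ n ∈ H, (χ : G → ℂ) n = (χ : G → ℂ) 1) with hA
  have hAmem : ∀ χ, χ ∈ A ↔ ∀ n ∈ H, (χ : G → ℂ) n = (χ : G → ℂ) 1 := fun χ => by simp only [hA, _root_.Finset.mem_filter, _root_.Finset.mem_univ, _root_.true_and]
  have hAB : A ⊆ B := by
    intro χ hχ
    rw [hB]
    exact S4626.result p M hM P H hidx hPC χ ((hAmem χ).1 hχ)
  have hsq : ∑ χ ∈ A, (charDegree (χ : G → ℂ)) ^ 2 = H.index := Blocks.PrincipalKernel.sum_sq_degrees H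
  have had : ∀ χ ∈ A, a χ = (charDegree (χ : G → ℂ) : ℤ) := by
    intro χ hχ
    have h3 := (hAmem χ).1 hχ x hxH
    rw [ha, Blocks.Basic.irr_one_eq_charDegree χ.2] at h3
    exact_mod_cast h3
  have hcc := card_filter H A hAmem
  have hsqZ : ∑ χ ∈ A, ((charDegree (χ : G → ℂ) : ℤ)) ^ 2 = (H.index : ℤ) := by exact_mod_cast hsq
  have hpos : 0 < H.index := Nat.pos_of_ne_zero Subgroup.index_ne_zero_of_finite
  -- the complement of `A`
  have h3 : ∑ χ ∈ B \ A, (a χ) ^ 2 + H.index = q := by
    rw [← hsqZ, ← h1, ← Finset.sum_sdiff hAB]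
    congr 1
    exact Finset.sum_congr rfl fun χ hχ => by rw [had χ hχ]
  have h4 : ∑ χ ∈ B \ A, a χ * (charDegree (χ : G → ℂ) : ℤ) + H.index = 0 := by
    rw [← hsqZ, ← h2, ← Finset.sum_sdiff hAB]
    congr 1
    exact Finset.sum_congr rfl fun χ hχ => by rw [had χ hχ, sq]
  have hcardU := Finset.card_sdiff_add_card_eq_card hAB
  rcases Nat.lt_or_ge (B \ A).card 1 with h5 | h5
  · have h6 : B \ A = ∅ := Finset.card_eq_zero.1 (by omega)
    rw [h6, Finset.sum_empty] at h4
    omega
  rcases Nat.lt_or_ge (B \ A).card 2 with h6 | h6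
  · exfalso
    obtain ⟨γ, hγ⟩ := Finset.card_eq_one.1 (show (B \ A).card = 1 by omega)
    rw [hγ, Finset.sum_singleton] at h3 h4
    have h7 : Nat.card (G ⧸ H) ≤ 6 := ClassEq.card_le_six (by omega)
    rw [← Subgroup.index_eq_card] at h7
    -- `a ∣ index`
    have h8 : a γ ∣ (H.index : ℤ) := ⟨-(charDegree (γ : G → ℂ) : ℤ), by linarith only [h4]⟩
    have h9 : |a γ| ≤ 6 := by
      have h10 := Int.le_of_dvd (by exact_mod_cast hpos) ((abs_dvd _ _).2 h8)
      have h11 : (H.index : ℤ) ≤ 6 := by exact_mod_cast h7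
      omega
    obtain ⟨r, hr⟩ := hodd
    have h10 : (27 : ℤ) ≤ q := by exact_mod_cast h27
    have h11 := abs_le.1 h9
    obtain ⟨h12, h13⟩ := h11
    generalize a γ = y at *
    generalize H.index = m at *
    interval_cases y <;> interval_cases m <;> (clear * - hHn h4 h1 hr h3 h27; omega)
  · have h7 : Nat.card (G ⧸ H) ≤ 2 := ClassEq.card_le_two (by omega)
    rwa [← Subgroup.index_eq_card] at h7

end Cfsg.Agent.H634.Index
end

-- part: H634/Red
section
/-!
# Reduction to a simple normal subgroup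
-/

set_option autoImplicit false

open Cfsg

namespace Cfsg.Agent.H634.Red

open Cfsg.Agent.H634.ZJ Cfsg.Agent.H634.Fus Cfsg.Agent.H634.HypS

variable {G : Type*} [Group G] [Finite G] {p : ℕ} [hp : Fact p.Prime]

theorem exists_pel {N : Subgroup G} (h : p ∣ Nat.card N) : ∃ x ∈ N, PEl p x ∧ x ≠ 1 := by
  obtain ⟨x, hx⟩ := exists_prime_orderOf_dvd_card' p h
  refine ⟨x, x.2, ⟨1, by rw [Subgroup.orderOf_coe, hx, pow_one]⟩, ?_⟩
  intro h0
  have h1 : x = 1 := Subtype.ext h0
  rw [h1, orderOf_one] at hx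
  exact hp.out.one_lt.ne hx

/-- A normal subgroup of order divisible by `p` contains all `p`-elements. -/
theorem mem_of_pel (hC : OneClass p G) {N : Subgroup G} (hN : N.Normal) (h : p ∣ Nat.card N) {y : G}
    (hy : PEl p y) : y ∈ N := by
  by_cases hy1 : y = 1
  · rw [hy1]; exact N.one_mem
  obtain ⟨x, hxN, hx, hx1⟩ := exists_pel h
  obtain ⟨c, hc⟩ := isConj_iff.1 (hC x y hx hx1 hy hy1)
  rw [← hc]
  exact hN.conj_mem x hxN c

theorem sylow_le (hC : OneClass p G) {N : Subgroup G} (hN : N.Normal) (h : p ∣ Nat.card N)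
    (P : Sylow p G) : (P : Subgroup G) ≤ N := fun _ hy =>
  mem_of_pel hC hN h (PEl.of_mem P.isPGroup' hy)

theorem normal_of_pCore (hC : OneClass p G) (h : pCore p G ≠ ⊥) (P : Sylow p G) :
    (P : Subgroup G).Normal := by
  have h1 : p ∣ Nat.card (pCore p G) := by
    have hnt : Nontrivial (pCore p G) := (Subgroup.nontrivial_iff_ne_bot _).2 h
    obtain ⟨k, hk, hk'⟩ := (Lib.Cores.pCore_isPGroup (G := G) p).nontrivial_iff_card.1 hnt
    rw [hk']
    exact dvd_pow_self p hk.ne'
  have h2 : (P : Subgroup G) = pCore p G :=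
    le_antisymm (sylow_le hC (Lib.Cores.pCore_normal p) h1 P) (Lib.Cores.pCore_le_sylow P)
  rw [h2]
  exact Lib.Cores.pCore_normal p

omit [Finite G] in
theorem not_dvd_of_eq_bot (hcore : pPrimeCore p G = ⊥) {N : Subgroup G} (hN : N.Normal)
    (h : ¬ p ∣ Nat.card N) : N = ⊥ := by
  rw [eq_bot_iff, ← hcore]
  exact Lib.Cores.le_pPrimeCore hN ((Nat.Prime.coprime_iff_not_dvd hp.out).2 h).symm

/-- **Reduction.** -/
theorem exists_simple (hcore : pPrimeCore p G = ⊥) (hN : NilCent p G) (hC : OneClass p G)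
    (hpG : p ∣ Nat.card G) : (∀ P : Sylow p G, (P : Subgroup G).Normal) ∨
      ∃ S : Subgroup G, S.Normal ∧ IsSimpleGroup S ∧ (¬ ∀ a b : S, a * b = b * a) ∧
        ∀ P : Sylow p G, (P : Subgroup G) ≤ S := by
  classical
  by_cases hOp : pCore p G = ⊥
  swap
  · exact Or.inl fun P => normal_of_pCore hC hOp P
  right
  have hGnt : Nontrivial G := by
    rw [← Finite.one_lt_card_iff_nontrivial]
    exact lt_of_lt_of_le hp.out.one_lt (Nat.le_of_dvd Nat.card_pos hpG)
  -- a minimal normal subgroup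
  obtain ⟨S, ⟨hSn, hS1⟩, hSmin⟩ := (wellFounded_lt (α := Subgroup G)).has_min
    {N : Subgroup G | N.Normal ∧ N ≠ ⊥} ⟨⊤, inferInstance, top_ne_bot⟩
  have hSmin' : ∀ N : Subgroup G, N.Normal → N ≤ S → N ≠ ⊥ → N = S := by
    intro N hNn hNS hN1
    by_contra hne
    exact hSmin N ⟨hNn, hN1⟩ (lt_of_le_of_ne hNS hne)
  have hpS : p ∣ Nat.card S := by
    by_contra h
    exact hS1 (not_dvd_of_eq_bot hcore hSn h)
  -- a minimal `S`-invariant subgroup of `S`
  let Inv : Subgroup G → Prop := fun L => ∀ s ∈ S, ∀ l ∈ L, s * l * s⁻¹ ∈ L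
  obtain ⟨L, ⟨hLS, hL1, hLinv⟩, hLmin⟩ := (wellFounded_lt (α := Subgroup G)).has_min
    {L : Subgroup G | L ≤ S ∧ L ≠ ⊥ ∧ Inv L} ⟨S, le_rfl, hS1, fun s hs l hl =>
      S.mul_mem (S.mul_mem hs hl) (S.inv_mem hs)⟩
  have hLmin' : ∀ L' : Subgroup G, L' ≤ L → L' ≠ ⊥ → Inv L' → L' = L := by
    intro L' hL' hL'1 hinv
    by_contra hne
    exact hLmin L' ⟨hL'.trans hLS, hL'1, hinv⟩ (lt_of_le_of_ne hL' hne)
  have hpL : p ∣ Nat.card L := by
    by_contra h
    have h1 : (L.subgroupOf S).Normal := by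
      constructor
      intro l hl s
      exact hLinv s s.2 l hl
    have h2 : Nat.card (L.subgroupOf S) = Nat.card L :=
      Nat.card_congr (Subgroup.subgroupOfEquivOfLe hLS).toEquiv
    have h3 := Lib.Cores.le_pPrimeCore (p := p) h1 (by
      rw [h2]; exact ((Nat.Prime.coprime_iff_not_dvd hp.out).2 h).symm)
    have h4 := Subgroup.map_mono (f := S.subtype) h3
    rw [Lib.Cores.map_subtype_pPrimeCore p hSn, hcore, inf_bot_eq, Subgroup.subgroupOf_map_subtype,
      inf_eq_left.2 hLS, le_bot_iff] at h4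
    exact hL1 h4
  by_cases hall : ∀ g : G, ∀ l ∈ L, g * l * g⁻¹ ∈ L
  · -- `S` is simple
    have hLn : L.Normal := ⟨fun l hl g => hall g l hl⟩
    have hLS' : L = S := hSmin' L hLn hLS hL1
    subst hLS'
    have hLnt : Nontrivial L := (Subgroup.nontrivial_iff_ne_bot L).2 hL1
    have hsimple : IsSimpleGroup L := by
      refine ⟨fun N hNn => ?_⟩
      by_cases hNb : N = ⊥
      · exact Or.inl hNb
      right
      have h1 : N.map L.subtype = L := by
        refine hLmin' _ (Subgroup.map_subtype_le _) ?_ ?_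
        · intro h0
          exact hNb ((Subgroup.map_eq_bot_iff_of_injective _ L.subtype_injective).1 h0)
        · rintro s hs _ ⟨n, hn, rfl⟩
          exact ⟨_, hNn.conj_mem n hn ⟨s, hs⟩, rfl⟩
      rw [eq_top_iff]
      rintro ⟨x, hx⟩ -
      have hx' : x ∈ N.map L.subtype := by rw [h1]; exact hx
      obtain ⟨n, hn, hnx⟩ := hx'
      have h2 : n = ⟨x, hx⟩ := Subtype.ext hnx
      rw [← h2]
      exact hn
    refine ⟨L, hSn, hsimple, ?_, fun P => sylow_le hC hSn hpS P⟩
    intro hcomm
    obtain ⟨P'⟩ : Nonempty (Sylow p L) := inferInstance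
    have hP'n : (P' : Subgroup L).Normal := ⟨fun a ha b => by
      rw [hcomm b a, mul_inv_cancel_right]; exact ha⟩
    rcases hP'n.eq_bot_or_eq_top with h0 | h0
    · have h1 := P'.not_dvd_index
      rw [h0, Subgroup.index_bot] at h1
      exact h1 hpS
    · have h1 : IsPGroup p L := by
        have h2 := P'.isPGroup'
        rw [h0] at h2
        exact h2.of_equiv Subgroup.topEquiv
      have h2 := Lib.Cores.le_pCore hSn h1
      rw [hOp, le_bot_iff] at h2
      exact hL1 h2
  · -- two commuting conjugates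
    exfalso
    push Not at hall
    obtain ⟨g, l0, hl0, hgl⟩ := hall
    set L' : Subgroup G := L.map (MulAut.conj g).toMonoidHom with hL'
    have hL'S : L' ≤ S := by
      rintro _ ⟨l, hl, rfl⟩
      exact hSn.conj_mem l (hLS hl) g
    have hL'inv : Inv L' := by
      rintro s hs _ ⟨l, hl, rfl⟩
      refine ⟨(g⁻¹ * s * g) * l * (g⁻¹ * s * g)⁻¹, hLinv _ ?_ l hl, ?_⟩
      · have := hSn.conj_mem s hs g⁻¹
        rwa [inv_inv] at this
      · change g * ((g⁻¹ * s * g) * l * (g⁻¹ * s * g)⁻¹) * g⁻¹ = s * (g * l * g⁻¹) * s⁻¹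
        group
    have hcardL' : Nat.card L' = Nat.card L := Subgroup.card_map_of_injective (MulAut.conj g).injective
    have hinf : L ⊓ L' = ⊥ := by
      by_contra h0
      have h1 := hLmin' (L ⊓ L') inf_le_left h0
        (fun s hs l hl => ⟨hLinv s hs l hl.1, hL'inv s hs l hl.2⟩)
      have h2 : L ≤ L' := by rw [← h1]; exact inf_le_right
      have h3 : L = L' := Subgroup.eq_of_le_of_card_ge h2 hcardL'.le
      apply hgl
      rw [h3]
      exact ⟨l0, hl0, rfl⟩
    have hcomm : ∀ l ∈ L, ∀ m ∈ L', l * m = m * l := by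
      intro l hl m hm
      have h1 : l * m * l⁻¹ * m⁻¹ ∈ L ⊓ L' := by
        constructor
        · have h2 := hLinv m (hL'S hm) l⁻¹ (L.inv_mem hl)
          have h3 := L.mul_mem hl h2
          have h4 : l * (m * l⁻¹ * m⁻¹) = l * m * l⁻¹ * m⁻¹ := by group
          rwa [h4] at h3
        · exact L'.mul_mem (hL'inv l (hLS hl) m hm) (L'.inv_mem hm)
      rw [hinf, Subgroup.mem_bot] at h1
      calc l * m = (l * m * l⁻¹ * m⁻¹) * (m * l) := by group
        _ = m * l := by rw [h1, one_mul]
    obtain ⟨x, hxL', hx, hx1⟩ := exists_pel (p := p) (N := L') (by rw [hcardL']; exact hpL)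
    -- `L` has a normal `p`-complement
    let f : L →* ↥(Subgroup.centralizer ({x} : Set G)) :=
      { toFun := fun l => ⟨l, by
          rw [Subgroup.mem_centralizer_singleton_iff]
          exact hcomm l l.2 x hxL'⟩
        map_one' := rfl
        map_mul' := fun _ _ => rfl }
    have hf : Function.Injective f := by
      intro a b hab
      apply Subtype.ext
      exact congrArg (fun z : ↥(Subgroup.centralizer ({x} : Set G)) => (z : G)) hab
    obtain ⟨N, hNn, hpN, k, hk⟩ := OddOrderLocal.NilpotentQuotient.exists_of_hasNormalPComplement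
      (hasNormalPComplement_of_injective f hf (hN x hx hx1))
    have hmemN : ∀ y : L, ¬ p ∣ orderOf y → y ∈ N := by
      intro y hy
      have h1 : orderOf (QuotientGroup.mk' N y) ∣ orderOf y := orderOf_map_dvd _ y
      have h2 : orderOf (QuotientGroup.mk' N y) ∣ p ^ k := by
        rw [← hk, Subgroup.index_eq_card]
        exact orderOf_dvd_natCard _
      have h3 : (orderOf y).Coprime (p ^ k) :=
        Nat.Coprime.pow_right _ (Nat.Coprime.symm ((Nat.Prime.coprime_iff_not_dvd hp.out).2 hy))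
      have h4 : orderOf (QuotientGroup.mk' N y) = 1 := Nat.eq_one_of_dvd_coprimes h3 h1 h2
      rw [orderOf_eq_one_iff] at h4
      exact (QuotientGroup.eq_one_iff y).1 h4
    have hNinv : Inv (N.map L.subtype) := by
      rintro s hs _ ⟨n, hn, rfl⟩
      refine ⟨⟨s * n * s⁻¹, hLinv s hs n n.2⟩, hmemN _ ?_, rfl⟩
      rw [← Subgroup.orderOf_coe]
      change ¬ p ∣ orderOf (s * (n : G) * s⁻¹)
      have h1 : orderOf (s * (n : G) * s⁻¹) = orderOf (n : G) :=
        MulEquiv.orderOf_eq (MulAut.conj s) (n : G)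
      rw [h1, Subgroup.orderOf_coe]
      intro h2
      apply hpN
      have h3 := orderOf_dvd_natCard (⟨n, hn⟩ : N)
      rw [← Subgroup.orderOf_coe] at h3
      exact h2.trans h3
    by_cases hN0 : N.map L.subtype = ⊥
    · have hN0' : N = ⊥ := (Subgroup.map_eq_bot_iff_of_injective _ L.subtype_injective).1 hN0
      rw [hN0', Subgroup.index_bot] at hk
      have hLp : IsPGroup p L := IsPGroup.of_card hk
      have h1 : (L.subgroupOf S).Normal := by
        constructor
        intro l hl s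
        exact hLinv s s.2 l hl
      have h3 := Lib.Cores.le_pCore (p := p) h1 (hLp.comap_of_injective _ S.subtype_injective)
      have h4 := Subgroup.map_mono (f := S.subtype) h3
      rw [Lib.Cores.map_subtype_pCore p hSn, hOp, inf_bot_eq, Subgroup.subgroupOf_map_subtype,
        inf_eq_left.2 hLS, le_bot_iff] at h4
      exact hL1 h4
    · have h1 := hLmin' _ (Subgroup.map_subtype_le _) hN0 hNinv
      apply hpN
      have h2 : Nat.card (N.map L.subtype) = Nat.card N :=
        Subgroup.card_map_of_injective L.subtype_injective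
      rw [← h2, h1]
      exact hpL

/-- Every `p`-element of a normal subgroup `S` containing `P` is `S`-conjugate into `P`. -/
theorem exists_conj_mem {S : Subgroup G} (P : Sylow p G) (hPS : (P : Subgroup G) ≤ S) {x : G}
    (hxS : x ∈ S) (hx : PEl p x) : ∃ s ∈ S, s * x * s⁻¹ ∈ P := by
  let x' : S := ⟨x, hxS⟩
  have hx' : PEl p x' := PEl.of_injective S.subtype S.subtype_injective hx
  obtain ⟨Q, hQ⟩ := hx'.exists_sylow
  let P' : Sylow p S := P.subtype hPS
  obtain ⟨s, hs⟩ := MulAction.exists_smul_eq S Q P'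
  refine ⟨s, s.2, ?_⟩
  have h1 : s * x' * s⁻¹ ∈ (P' : Subgroup S) := by
    have h2 : ((s • Q : Sylow p S) : Subgroup S) = P' := by rw [hs]
    rw [← h2, Sylow.coe_subgroup_smul]
    exact ⟨x', hQ, rfl⟩
  exact h1

theorem hyp_of_index {n : ℕ} {S : Subgroup G} (hSn : S.Normal) (P : Sylow p G)
    (hPS : (P : Subgroup G) ≤ S) (hN : NilCent p G) (hC : OneClass p G)
    (hcomm : ∀ a ∈ P, ∀ b ∈ P, a * b = b * a) (hcard : Nat.card P = p ^ n)
    (hidx : (S ⊔ Subgroup.centralizer ((P : Subgroup G) : Set G)).index ≤ 2) : Hyp p n S := by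
  set H := S ⊔ Subgroup.centralizer ((P : Subgroup G) : Set G) with hH
  have hcm : IsMulCommutative (P : Subgroup G) :=
    ⟨⟨fun a b => Subtype.ext (hcomm a a.2 b b.2)⟩⟩
  have hburn : ∀ x y : G, x ∈ P → y ∈ P → IsConj x y →
      ∃ g ∈ Subgroup.normalizer ((P : Subgroup G) : Set G), g * x * g⁻¹ = y := by
    intro x y hx hy hxy
    obtain ⟨c, hc⟩ := isConj_iff.1 hxy
    obtain ⟨g, hg, hg1⟩ := P.conj_eq_normalizer_conj_of_mem x c⁻¹ hx (by
      rw [inv_inv, hc]; exact hy)
    refine ⟨g⁻¹, Subgroup.inv_mem _ hg, ?_⟩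
    rw [inv_inv, ← hg1, inv_inv, hc]
  -- elements of `H` act as elements of `S`
  have hact : ∀ g ∈ H, ∀ x ∈ P, ∃ s ∈ S, g * x * g⁻¹ = s * x * s⁻¹ := by
    intro g hg x hx
    obtain ⟨s, hs, c, hc, rfl⟩ := Subgroup.mem_sup_of_normal_left.1 hg
    refine ⟨s, hs, ?_⟩
    have h1 : x * c = c * x := Subgroup.mem_centralizer_iff.1 hc x hx
    calc s * c * x * (s * c)⁻¹ = s * (c * x) * c⁻¹ * s⁻¹ := by group
      _ = s * (x * c) * c⁻¹ * s⁻¹ := by rw [h1]
      _ = s * x * s⁻¹ := by group
  have hdiff : ∀ g k : G, g ∉ H → k ∉ H → k * g⁻¹ ∈ H := by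
    intro g k hg hk
    have h0 : H.index ≠ 0 := Subgroup.index_ne_zero_of_finite
    have h1 : H.index ≠ 1 := by
      intro h1
      rw [Subgroup.index_eq_one] at h1
      rw [h1] at hg
      exact hg trivial
    have h2 : H.index = 2 := by omega
    rw [Subgroup.mul_mem_iff_of_index_two h2, H.inv_mem_iff]
    exact ⟨fun h => absurd h hk, fun h => absurd h hg⟩
  -- two classes
  have hkey : ∀ x y z : G, x ∈ P → y ∈ P → z ∈ P → x ≠ 1 → y ≠ 1 → z ≠ 1 →
      (∃ s ∈ S, s * x * s⁻¹ = y) ∨ (∃ s ∈ S, s * y * s⁻¹ = z) ∨ (∃ s ∈ S, s * x * s⁻¹ = z) := by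
    intro x y z hx hy hz hx1 hy1 hz1
    have px := PEl.of_mem P.isPGroup' hx
    have py := PEl.of_mem P.isPGroup' hy
    have pz := PEl.of_mem P.isPGroup' hz
    obtain ⟨g, -, hg⟩ := hburn x y hx hy (hC x y px hx1 py hy1)
    obtain ⟨k, -, hk⟩ := hburn x z hx hz (hC x z px hx1 pz hz1)
    by_cases hgH : g ∈ H
    · obtain ⟨s, hs, he⟩ := hact g hgH x hx
      exact Or.inl ⟨s, hs, by rw [← he, hg]⟩
    by_cases hkH : k ∈ H
    · obtain ⟨s, hs, he⟩ := hact k hkH x hx
      exact Or.inr (Or.inr ⟨s, hs, by rw [← he, hk]⟩)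
    obtain ⟨s, hs, he⟩ := hact _ (hdiff g k hgH hkH) y hy
    refine Or.inr (Or.inl ⟨s, hs, ?_⟩)
    rw [← he, ← hk, ← hg]
    group
  have hcard' : Nat.card P = p ^ (Nat.card G).factorization p := P.card_eq_multiplicity
  refine ⟨?_, ?_, ?_, ?_, ?_, ?_⟩
  · exact hN.of_injective S.subtype S.subtype_injective
  · intro x y z hx hx1 hy hy1 hz hz1
    have hne : ∀ w : S, w ≠ 1 → (w : G) ≠ 1 := fun w hw h => hw (Subtype.ext h)
    obtain ⟨a, ha, hax⟩ := exists_conj_mem P hPS x.2 (hx.map hp.out S.subtype)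
    obtain ⟨b, hb, hby⟩ := exists_conj_mem P hPS y.2 (hy.map hp.out S.subtype)
    obtain ⟨c, hc, hcz⟩ := exists_conj_mem P hPS z.2 (hz.map hp.out S.subtype)
    have hcj1 : ∀ (u : G) (w : S), w ≠ 1 → u * (w : G) * u⁻¹ ≠ 1 := by
      intro u w hw h
      apply hne w hw
      calc (w : G) = u⁻¹ * (u * w * u⁻¹) * u := by group
        _ = 1 := by rw [h]; group
    rcases hkey _ _ _ hax hby hcz (hcj1 a x hx1) (hcj1 b y hy1) (hcj1 c z hz1) with
      ⟨s, hs, he⟩ | ⟨s, hs, he⟩ | ⟨s, hs, he⟩
    · refine Or.inl (isConj_iff.2 ⟨⟨b⁻¹ * s * a, S.mul_mem (S.mul_mem (S.inv_mem hb) hs) ha⟩, ?_⟩)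
      apply Subtype.ext
      change (b⁻¹ * s * a) * (x : G) * (b⁻¹ * s * a)⁻¹ = y
      calc (b⁻¹ * s * a) * (x : G) * (b⁻¹ * s * a)⁻¹ = b⁻¹ * (s * (a * x * a⁻¹) * s⁻¹) * b := by group
        _ = b⁻¹ * (b * y * b⁻¹) * b := by rw [he]
        _ = y := by group
    · refine Or.inr (Or.inl (isConj_iff.2
        ⟨⟨c⁻¹ * s * b, S.mul_mem (S.mul_mem (S.inv_mem hc) hs) hb⟩, ?_⟩))
      apply Subtype.ext
      change (c⁻¹ * s * b) * (y : G) * (c⁻¹ * s * b)⁻¹ = z
      calc (c⁻¹ * s * b) * (y : G) * (c⁻¹ * s * b)⁻¹ = c⁻¹ * (s * (b * y * b⁻¹) * s⁻¹) * c := by group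
        _ = c⁻¹ * (c * z * c⁻¹) * c := by rw [he]
        _ = z := by group
    · refine Or.inr (Or.inr (isConj_iff.2
        ⟨⟨c⁻¹ * s * a, S.mul_mem (S.mul_mem (S.inv_mem hc) hs) ha⟩, ?_⟩))
      apply Subtype.ext
      change (c⁻¹ * s * a) * (x : G) * (c⁻¹ * s * a)⁻¹ = z
      calc (c⁻¹ * s * a) * (x : G) * (c⁻¹ * s * a)⁻¹ = c⁻¹ * (s * (a * x * a⁻¹) * s⁻¹) * c := by group
        _ = c⁻¹ * (c * z * c⁻¹) * c := by rw [he]
        _ = z := by group
  · intro Q hQ a ha b hb
    obtain ⟨R, hR⟩ := (hQ.map S.subtype).exists_le_sylow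
    obtain ⟨g, hg⟩ := MulAction.exists_smul_eq G R P
    have hmem : ∀ w : S, w ∈ Q → g * (w : G) * g⁻¹ ∈ (P : Subgroup G) := by
      intro w hw
      have h2 : ((g • R : Sylow p G) : Subgroup G) = P := by rw [hg]
      rw [← h2, Sylow.coe_subgroup_smul]
      exact ⟨w, hR ⟨w, hw, rfl⟩, rfl⟩
    have h3 := hcomm _ (hmem a ha) _ (hmem b hb)
    apply Subtype.ext
    change (a : G) * b = b * a
    calc (a : G) * b = g⁻¹ * ((g * a * g⁻¹) * (g * b * g⁻¹)) * g := by group
      _ = g⁻¹ * ((g * b * g⁻¹) * (g * a * g⁻¹)) * g := by rw [h3]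
      _ = (b : G) * a := by group
  · intro x hx
    apply Subtype.ext
    exact pow_eq_one hC (hx.map hp.out S.subtype)
  · rw [← hcard]
    exact Subgroup.card_dvd_of_le hPS
  · intro h1
    have h2 : p ^ (n + 1) ∣ Nat.card G := h1.trans (Subgroup.card_subgroup_dvd_card S)
    have h3 : n + 1 ≤ (Nat.card G).factorization p :=
      (hp.out.pow_dvd_iff_le_factorization Nat.card_pos.ne').1 h2
    have h4 : n = (Nat.card G).factorization p := by
      apply Nat.pow_right_injective hp.out.two_le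
      change p ^ n = p ^ _
      rw [← hcard, hcard']
    omega

end Cfsg.Agent.H634.Red
end

-- part: H634/Simple
section
/-!
# Reduction to a simple normal subgroup, with block input
-/

set_option autoImplicit false

open Cfsg

namespace Cfsg.Agent.H634.Simple

open Cfsg.Agent.H634.ZJ Cfsg.Agent.H634.Fus Cfsg.Agent.H634.HypS

variable {G : Type*} [Group G] [Finite G] {p : ℕ} [hp : Fact p.Prime] {M : Ideal AlgInt}

omit [Finite G] in
theorem ncard_conj (x : G) :
    {y | IsConj x y}.ncard = (Subgroup.centralizer ({x} : Set G)).index := by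
  have h1 : MulAction.orbit (ConjAct G) x = {y | IsConj x y} := by
    ext y
    rw [ConjAct.mem_orbit_conjAct]
    exact isConj_comm
  have h2 := MulAction.index_stabilizer (ConjAct G) x
  let f : G →* ConjAct G := (ConjAct.toConjAct : G ≃* ConjAct G).toMonoidHom
  have hf : Function.Surjective f := (ConjAct.toConjAct : G ≃* ConjAct G).surjective
  have h3 : Subgroup.centralizer ({x} : Set G) = (MulAction.stabilizer (ConjAct G) x).comap f := by
    ext g
    rw [Subgroup.mem_centralizer_singleton_iff, Subgroup.mem_comap, MulAction.mem_stabilizer_iff]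
    change _ ↔ ConjAct.toConjAct g • x = x
    rw [ConjAct.toConjAct_smul, mul_inv_eq_iff_eq_mul]
  rw [h3, Subgroup.index_comap_of_surjective _ hf, h2, h1]

/-- `S C_G(P)` is normal, for `S` a normal subgroup containing the Sylow subgroup `P`. -/
theorem sup_normal {S : Subgroup G} (hSn : S.Normal) (P : Sylow p G) (hPS : (P : Subgroup G) ≤ S) :
    (S ⊔ Subgroup.centralizer ((P : Subgroup G) : Set G)).Normal := by
  set C := Subgroup.centralizer ((P : Subgroup G) : Set G) with hC
  have hF : Subgroup.normalizer ((P : Subgroup G) : Set G) ⊔ S = ⊤ :=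
    Sylow.normalizer_sup_eq_top' P hPS
  constructor
  intro h hh g
  obtain ⟨s, hs, c, hc, rfl⟩ := Subgroup.mem_sup_of_normal_left.1 hh
  have hg : g ∈ (S ⊔ Subgroup.normalizer ((P : Subgroup G) : Set G) : Subgroup G) := by
    rw [sup_comm, hF]; trivial
  obtain ⟨u, hu, v, hv, rfl⟩ := Subgroup.mem_sup_of_normal_left.1 hg
  have h1 : v * c * v⁻¹ ∈ C := by
    rw [hC, Subgroup.mem_centralizer_iff]
    intro y hy
    have h2 : v⁻¹ * y * v ∈ (P : Subgroup G) := by
      have := (Subgroup.mem_normalizer_iff.1 (Subgroup.inv_mem _ hv) y).1 hy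
      rwa [inv_inv] at this
    have h3 := Subgroup.mem_centralizer_iff.1 hc _ h2
    calc y * (v * c * v⁻¹) = v * ((v⁻¹ * y * v) * c) * v⁻¹ := by group
      _ = v * (c * (v⁻¹ * y * v)) * v⁻¹ := by rw [h3]
      _ = v * c * v⁻¹ * y := by group
  have h4 : u * v * (s * c) * (u * v)⁻¹ = (u * (v * s * v⁻¹)) * (v * c * v⁻¹) * u⁻¹ := by group
  rw [h4]
  have hS : ∀ w ∈ S, w ∈ S ⊔ C := fun w hw => (le_sup_left : S ≤ S ⊔ C) hw
  exact (S ⊔ C).mul_mem ((S ⊔ C).mul_mem (hS _ (S.mul_mem hu (hSn.conj_mem s hs v)))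
    ((le_sup_right : C ≤ S ⊔ C) h1)) (hS _ (S.inv_mem hu))

theorem exists_hyp (hM : IsPModular p M) (hp2 : p ≠ 2) (hcore : pPrimeCore p G = ⊥)
    (hN : NilCent p G) (hC : OneClass p G) (P : Sylow p G) {n : ℕ} (hn : 3 ≤ n)
    (hq : Nat.card P = p ^ n) (hk : Nat.card (principalBlock M G) ≤ 4) :
    ∃ S : Subgroup G, S.Normal ∧ IsSimpleGroup S ∧ (¬ ∀ a b : S, a * b = b * a) ∧
      (P : Subgroup G) ≤ S ∧
      (S ⊔ Subgroup.centralizer ((P : Subgroup G) : Set G)).index ≤ 2 ∧ Hyp p n S := by
  classical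
  have := Fintype.ofFinite G
  have : Finite (IrrCharacter G) := Characters.Core.finite_irr
  have := Fintype.ofFinite (IrrCharacter G)
  have hp3 : 3 ≤ p := by
    have := hp.out.two_le
    omega
  have h27 : 27 ≤ p ^ n := by
    calc 27 = 3 ^ 3 := by norm_num
      _ ≤ p ^ 3 := Nat.pow_le_pow_left hp3 3
      _ ≤ p ^ n := Nat.pow_le_pow_right hp.out.pos hn
  have hodd : Odd (p ^ n) := (hp.out.odd_of_ne_two hp2).pow
  have hcomm : ∀ a ∈ P, ∀ b ∈ P, a * b = b * a := fun a ha b hb => sylow_comm hp2 hN hC P ha hb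
  obtain ⟨x, hxP, hx1⟩ := Hyp.exists_ne_one P hq (by omega : n ≠ 0)
  set B : Finset (IrrCharacter G) := Finset.univ.filter (fun χ => χ ∈ principalBlock M G) with hB
  have hBm : ∀ χ, χ ∈ B ↔ χ ∈ principalBlock M G := fun χ => by simp only [hB, _root_.Finset.mem_filter, _root_.Finset.mem_univ, _root_.true_and]
  have hBc : B.card ≤ 4 := by
    have h1 : B.card = Nat.card (principalBlock M G) := by
      rw [Nat.card_eq_card_toFinset]
      congr 1
      ext χ
      simp [hBm]
    omega
  obtain ⟨a, ha, hs1, hs2⟩ := Ari.data hM hN hC P hxP hx1 (fun y hy => hcomm x hxP y hy) B hBm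
  have hs1' : ∑ χ ∈ B, (a χ) ^ 2 = ((p ^ n : ℕ) : ℤ) := by rw [hs1, hq]
  have hidx : ∀ H : Subgroup G, H.Normal → Subgroup.centralizer ((P : Subgroup G) : Set G) ≤ H →
      (P : Subgroup G) ≤ H → H.index ≤ 2 := by
    intro H hHn hCH hPH
    refine Index.index_le_two hM P hodd h27 B hBm hBc a ha hs1' hs2 H hCH (hPH hxP) ?_
    intro h1
    have h2 : H.index ∣ (P : Subgroup G).index := Subgroup.index_dvd_of_le hPH
    exact P.not_dvd_index (h1.trans h2)
  have hpG : p ∣ Nat.card G := by
    refine (dvd_pow_self p (by omega : n ≠ 0)).trans ?_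
    rw [← hq]
    exact Subgroup.card_subgroup_dvd_card _
  have hPC : (P : Subgroup G) ≤ Subgroup.centralizer ((P : Subgroup G) : Set G) := by
    intro a ha
    rw [Subgroup.mem_centralizer_iff]
    intro b hb
    exact hcomm b hb a ha
  rcases Red.exists_simple hcore hN hC hpG with hPn | ⟨S, hSn, hSs, hna, hPS⟩
  · -- `P` is normal: the class of `x` is too large
    exfalso
    have hPn' := hPn P
    have h1 := hidx (Subgroup.centralizer ((P : Subgroup G) : Set G)) inferInstance le_rfl hPC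
    have h2 : Subgroup.centralizer ((P : Subgroup G) : Set G) ≤ Subgroup.centralizer ({x} : Set G) := by
      intro c hc
      rw [Subgroup.mem_centralizer_singleton_iff]
      exact (Subgroup.mem_centralizer_iff.1 hc x hxP).symm
    have h3 : (Subgroup.centralizer ({x} : Set G)).index ≤ 2 :=
      le_trans (Nat.le_of_dvd (Nat.pos_of_ne_zero Subgroup.index_ne_zero_of_finite)
        (Subgroup.index_dvd_of_le h2)) h1
    have h4 : ((P : Subgroup G) : Set G) \ {1} ⊆ {y | IsConj x y} := by
      rintro y ⟨hy, hy1⟩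
      exact hC x y (PEl.of_mem P.isPGroup' hxP) hx1 (PEl.of_mem P.isPGroup' hy) hy1
    have h5 := ncard_conj x
    have h6 := Set.ncard_le_ncard h4 (Set.toFinite _)
    rw [Set.ncard_sdiff_singleton_of_mem (P : Subgroup G).one_mem, h5] at h6
    have h7 : ((P : Subgroup G) : Set G).ncard = p ^ n := hq
    omega
  · have h1 := hidx _ (sup_normal hSn P (hPS P)) le_sup_right ((hPS P).trans le_sup_left)
    exact ⟨S, hSn, hSs, hna, hPS P, h1, Red.hyp_of_index hSn P (hPS P) hN hC hcomm hq h1⟩

end Cfsg.Agent.H634.Simple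
end
end

-- part: H627/ExSimpleGen
section
set_option linter.all false
open scoped Cfsg.Agent.FastGrp

-- part: H627/ESGClass
section
/-!
# Finite groups with four conjugacy classes have order at most 42 (helper627, S4615 T5)
-/

set_option autoImplicit false

namespace Cfsg.Agent.H627.ESGClass

open Cfsg.Agent.H634.ClassEq

theorem le_aux {n s t u : ℕ} (hs : 1 ≤ s) (hst : s ≤ t) (htu : t ≤ u) (h : s + t + u + 1 = n) (hsn : s ∣ n)
    (htn : t ∣ n) (hun : u ∣ n) : n ≤ 42 := by
  obtain ⟨c, hc⟩ := hun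
  obtain ⟨b, hb⟩ := htn
  -- `c ≤ 4`
  have hc4 : c ≤ 4 := by
    by_contra hcon
    have : u * 5 ≤ u * c := Nat.mul_le_mul_left _ (by omega)
    omega
  have hsd : ∀ k : ℕ, k * (s + 1) = n * 1 ∨ True → True := fun _ _ => trivial
  have hc0 : c ≠ 0 := by rintro rfl; omega
  have hc1 : c ≠ 1 := by rintro rfl; omega
  have hc' : c = 2 ∨ c = 3 ∨ c = 4 := by omega
  rcases hc' with rfl | rfl | rfl
  · -- `u = s + t + 1`
    have hb6 : b ≤ 6 := by
      by_contra hcon
      have : t * 7 ≤ t * b := Nat.mul_le_mul_left _ (by omega)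
      omega
    have key : ∀ m : ℕ, n + 0 = n → (∃ k, m * (s + 1) = k * n) → s ∣ m := by
      rintro m - ⟨k, hk⟩
      have h1 : s ∣ m * (s + 1) := by rw [hk]; exact hsn.mul_left k
      rw [mul_add, mul_one] at h1
      exact (Nat.dvd_add_right (dvd_mul_left s m)).1 h1
    interval_cases b
    · omega
    · omega
    · omega
    · -- `3 t = 2 u = n`, `s + 1 = n / 6`
      have h1 : s ∣ 6 := key 6 rfl ⟨1, by omega⟩
      have := Nat.le_of_dvd (by norm_num) h1
      omega
    · have h1 : s ∣ 4 := key 4 rfl ⟨1, by omega⟩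
      have := Nat.le_of_dvd (by norm_num) h1
      omega
    · omega
    · omega
  · have hb4 : b ≤ 6 := by
      by_contra hcon
      have : t * 7 ≤ t * b := Nat.mul_le_mul_left _ (by omega)
      omega
    have key : ∀ m : ℕ, (∃ k, m * (s + 1) = k * n) → s ∣ m := by
      rintro m ⟨k, hk⟩
      have h1 : s ∣ m * (s + 1) := by rw [hk]; exact hsn.mul_left k
      rw [mul_add, mul_one] at h1
      exact (Nat.dvd_add_right (dvd_mul_left s m)).1 h1
    interval_cases b
    · omega
    · omega
    · omega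
    · have h1 : s ∣ 3 := key 3 ⟨1, by omega⟩
      have := Nat.le_of_dvd (by norm_num) h1
      omega
    · omega
    · omega
    · omega
  · omega

theorem le_42 {n s t u : ℕ} (hs : 1 ≤ s) (ht : 1 ≤ t) (hu : 1 ≤ u) (h : s + t + u + 1 = n) (hsn : s ∣ n)
    (htn : t ∣ n) (hun : u ∣ n) : n ≤ 42 := by
  rcases le_total s t with h1 | h1 <;> rcases le_total t u with h2 | h2 <;> rcases le_total s u with h3 | h3
  · exact le_aux hs h1 h2 h hsn htn hun
  · exact le_aux hs h1 h2 h hsn htn hun
  · exact le_aux hs h3 h2 (by omega) hsn hun htn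
  · exact le_aux hu h3 h1 (by omega) hun hsn htn
  · exact le_aux ht h1 h3 (by omega) htn hsn hun
  · exact le_aux ht h2 h3 (by omega) htn hun hsn
  · exact le_aux hu h2 h1 (by omega) hun htn hsn
  · exact le_aux hu h2 h1 (by omega) hun htn hsn

theorem card_le {T : Type*} [Group T] [Finite T] (h : Nat.card (ConjClasses T) ≤ 4) : Nat.card T ≤ 42 := by
  classical
  rcases Nat.lt_or_ge (Nat.card (ConjClasses T)) 4 with h0 | h0
  · have := card_le_six (T := T) (by omega)
    omega
  have := Fintype.ofFinite T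
  have := Fintype.ofFinite (ConjClasses T)
  have h1 := class_eq (T := T)
  set E := (Finset.univ : Finset (ConjClasses T)).erase (ConjClasses.mk 1) with hE
  have h2 : E.card = 3 := by
    rw [hE, Finset.card_erase_of_mem (Finset.mem_univ _), Finset.card_univ, ← Nat.card_eq_fintype_card]
    omega
  obtain ⟨c, d, e, hcd, hce, hde, hc⟩ := Finset.card_eq_three.1 h2
  rw [hc, Finset.sum_insert (by simp [hcd, hce]), Finset.sum_pair hde] at h1
  obtain ⟨h5, h6⟩ := card_carrier_dvd c
  obtain ⟨h7, h8⟩ := card_carrier_dvd d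
  obtain ⟨h9, h10⟩ := card_carrier_dvd e
  exact le_42 h6 h8 h10 (by rw [← h1]; ring) h5 h7 h9

end Cfsg.Agent.H627.ESGClass
end

-- part: H627/ExSimpleGen
section
/-!
# Reduction to a simple group (S4615, T5; helper627)

`exists_simple_gen` : `p` odd, `O_{p'}(G) = 1`, `k(B₀) = 4`, `l(B₀) = 2`, abelian Sylow `p`-subgroups `P`, one class of
nontrivial `p`-elements or `p`-nilpotent centralizers: there is a nonabelian simple normal subgroup `S` containing `P`
with `G = S C_G(P)` and `k(B₀(S)) = 4`.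
-/

set_option autoImplicit false

open Cfsg

namespace Cfsg.Agent.H627.ExSimpleGen

open Cfsg.Agent.H634.ZJ Cfsg.Agent.H634.Fus Cfsg.Agent.H634.HypS Cfsg.Agent.H634.Red H633.Principal

variable {G : Type*} [Group G] [Finite G] {p : ℕ} [hp : Fact p.Prime] {M : Ideal AlgInt}

/-! ### A normal Sylow subgroup -/

theorem isPSolvable_of_normal (P : Sylow p G) (hPn : (P : Subgroup G).Normal) : IsPSolvable p G := by
  obtain ⟨m, hm⟩ := P.isPGroup'.exists_card_eq
  refine ⟨2, ![⊥, P, ⊤], rfl, rfl, ?_, ?_, ?_⟩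
  · intro i j hij
    fin_cases i <;> fin_cases j <;> simp_all only [Fin.le_def, _root_.Nat.reduceAdd, _root_.Fin.zero_eta, _root_.Fin.isValue, _root_.Std.le_refl, _root_.Matrix.cons_val_zero, _root_.Fin.mk_one, _root_.zero_le, _root_.Matrix.cons_val_one, _root_.bot_le, _root_.Fin.reduceFinMk, _root_.Matrix.cons_val, _root_.le_top, _root_.nonpos_iff_eq_zero, _root_.one_ne_zero, _root_.Fin.coe_ofNat_eq_mod, _root_.Nat.one_mod, _root_.Nat.mod_succ, _root_.Nat.one_le_ofNat, _root_.Fin.reduceEq, _root_.Nat.not_ofNat_le_one]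
  · intro i
    fin_cases i
    · exact Subgroup.normal_bot
    · exact hPn
    · exact Subgroup.normal_top
  · intro i
    fin_cases i
    · left
      refine ⟨m, ?_⟩
      change (⊥ : Subgroup G).relIndex P = p ^ m
      rw [Subgroup.relIndex_bot_left]
      exact hm
    · right
      change ((P : Subgroup G).relIndex ⊤).Coprime p
      rw [Subgroup.relIndex_top_right]
      exact ((Nat.Prime.coprime_iff_not_dvd hp.out).2 P.not_dvd_index).symm

/-- A group with a normal Sylow subgroup, `O_{p'}(G) = 1` and at most four characters in the principal block. -/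
theorem card_le_of_normal (hM : IsPModular p M) (hcore : pPrimeCore p G = ⊥) (P : Sylow p G)
    (hPn : (P : Subgroup G).Normal) (hk : Nat.card (principalBlock M G) ≤ 4) : Nat.card G ≤ 42 := by
  apply ESGClass.card_le
  rw [← Characters.Core.card_irr]
  have h1 : principalBlock M G = Set.univ := by
    rw [Set.eq_univ_iff_forall]
    intro χ
    exact S0915.result p M hM (isPSolvable_of_normal P hPn) hcore ⟨fun _ => 1, Characters.Core.isIrr_one⟩ χ
  rw [h1, Nat.card_congr (Equiv.Set.univ (IrrCharacter G))] at hk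
  exact hk

/-! ### The simple normal subgroup -/

/-- **Reduction.** -/
theorem exists_simple (hcore : pPrimeCore p G = ⊥) (hX : OneClass p G ∨ NilCent p G) (hOp : pCore p G = ⊥)
    (P : Sylow p G) (hQ : ∀ N : Subgroup G, N.Normal → p ∣ Nat.card N → (P : Subgroup G) ≤ N)
    (hpG : p ∣ Nat.card G) :
      ∃ S : Subgroup G, S.Normal ∧ IsSimpleGroup S ∧ (¬ ∀ a b : S, a * b = b * a) ∧ (P : Subgroup G) ≤ S := by
  classical
  have hGnt : Nontrivial G := by
    rw [← Finite.one_lt_card_iff_nontrivial]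
    exact lt_of_lt_of_le hp.out.one_lt (Nat.le_of_dvd Nat.card_pos hpG)
  -- a minimal normal subgroup
  obtain ⟨S, ⟨hSn, hS1⟩, hSmin⟩ := (wellFounded_lt (α := Subgroup G)).has_min
    {N : Subgroup G | N.Normal ∧ N ≠ ⊥} ⟨⊤, inferInstance, top_ne_bot⟩
  have hSmin' : ∀ N : Subgroup G, N.Normal → N ≤ S → N ≠ ⊥ → N = S := by
    intro N hNn hNS hN1
    by_contra hne
    exact hSmin N ⟨hNn, hN1⟩ (lt_of_le_of_ne hNS hne)
  have hpS : p ∣ Nat.card S := by
    by_contra h
    exact hS1 (not_dvd_of_eq_bot hcore hSn h)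
  -- a minimal `S`-invariant subgroup of `S`
  let Inv : Subgroup G → Prop := fun L => ∀ s ∈ S, ∀ l ∈ L, s * l * s⁻¹ ∈ L
  obtain ⟨L, ⟨hLS, hL1, hLinv⟩, hLmin⟩ := (wellFounded_lt (α := Subgroup G)).has_min
    {L : Subgroup G | L ≤ S ∧ L ≠ ⊥ ∧ Inv L} ⟨S, le_rfl, hS1, fun s hs l hl =>
      S.mul_mem (S.mul_mem hs hl) (S.inv_mem hs)⟩
  have hLmin' : ∀ L' : Subgroup G, L' ≤ L → L' ≠ ⊥ → Inv L' → L' = L := by
    intro L' hL' hL'1 hinv
    by_contra hne
    exact hLmin L' ⟨hL'.trans hLS, hL'1, hinv⟩ (lt_of_le_of_ne hL' hne)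
  have hpL : p ∣ Nat.card L := by
    by_contra h
    have h1 : (L.subgroupOf S).Normal := by
      constructor
      intro l hl s
      exact hLinv s s.2 l hl
    have h2 : Nat.card (L.subgroupOf S) = Nat.card L :=
      Nat.card_congr (Subgroup.subgroupOfEquivOfLe hLS).toEquiv
    have h3 := Lib.Cores.le_pPrimeCore (p := p) h1 (by
      rw [h2]; exact ((Nat.Prime.coprime_iff_not_dvd hp.out).2 h).symm)
    have h4 := Subgroup.map_mono (f := S.subtype) h3
    rw [Lib.Cores.map_subtype_pPrimeCore p hSn, hcore, inf_bot_eq, Subgroup.subgroupOf_map_subtype,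
      inf_eq_left.2 hLS, le_bot_iff] at h4
    exact hL1 h4
  by_cases hall : ∀ g : G, ∀ l ∈ L, g * l * g⁻¹ ∈ L
  · -- `S` is simple
    have hLn : L.Normal := ⟨fun l hl g => hall g l hl⟩
    have hLS' : L = S := hSmin' L hLn hLS hL1
    subst hLS'
    have hLnt : Nontrivial L := (Subgroup.nontrivial_iff_ne_bot L).2 hL1
    have hsimple : IsSimpleGroup L := by
      refine ⟨fun N hNn => ?_⟩
      by_cases hNb : N = ⊥
      · exact Or.inl hNb
      right
      have h1 : N.map L.subtype = L := by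
        refine hLmin' _ (Subgroup.map_subtype_le _) ?_ ?_
        · intro h0
          exact hNb ((Subgroup.map_eq_bot_iff_of_injective _ L.subtype_injective).1 h0)
        · rintro s hs _ ⟨n, hn, rfl⟩
          exact ⟨_, hNn.conj_mem n hn ⟨s, hs⟩, rfl⟩
      rw [eq_top_iff]
      rintro ⟨x, hx⟩ -
      have hx' : x ∈ N.map L.subtype := by rw [h1]; exact hx
      obtain ⟨n, hn, hnx⟩ := hx'
      have h2 : n = ⟨x, hx⟩ := Subtype.ext hnx
      rw [← h2]
      exact hn
    refine ⟨L, hSn, hsimple, ?_, hQ L hSn hpS⟩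
    intro hcomm
    obtain ⟨P'⟩ : Nonempty (Sylow p L) := inferInstance
    have hP'n : (P' : Subgroup L).Normal := ⟨fun a ha b => by
      rw [hcomm b a, mul_inv_cancel_right]; exact ha⟩
    rcases hP'n.eq_bot_or_eq_top with h0 | h0
    · have h1 := P'.not_dvd_index
      rw [h0, Subgroup.index_bot] at h1
      exact h1 hpS
    · have h1 : IsPGroup p L := by
        have h2 := P'.isPGroup'
        rw [h0] at h2
        exact h2.of_equiv Subgroup.topEquiv
      have h2 := Lib.Cores.le_pCore hSn h1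
      rw [hOp, le_bot_iff] at h2
      exact hL1 h2
  · -- two commuting conjugates
    exfalso
    push Not at hall
    obtain ⟨g, l0, hl0, hgl⟩ := hall
    set L' : Subgroup G := L.map (MulAut.conj g).toMonoidHom with hL'
    have hL'S : L' ≤ S := by
      rintro _ ⟨l, hl, rfl⟩
      exact hSn.conj_mem l (hLS hl) g
    have hL'inv : Inv L' := by
      rintro s hs _ ⟨l, hl, rfl⟩
      refine ⟨(g⁻¹ * s * g) * l * (g⁻¹ * s * g)⁻¹, hLinv _ ?_ l hl, ?_⟩
      · have := hSn.conj_mem s hs g⁻¹
        rwa [inv_inv] at this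
      · change g * ((g⁻¹ * s * g) * l * (g⁻¹ * s * g)⁻¹) * g⁻¹ = s * (g * l * g⁻¹) * s⁻¹
        group
    have hcardL' : Nat.card L' = Nat.card L := Subgroup.card_map_of_injective (MulAut.conj g).injective
    have hinf : L ⊓ L' = ⊥ := by
      by_contra h0
      have h1 := hLmin' (L ⊓ L') inf_le_left h0
        (fun s hs l hl => ⟨hLinv s hs l hl.1, hL'inv s hs l hl.2⟩)
      have h2 : L ≤ L' := by rw [← h1]; exact inf_le_right
      have h3 : L = L' := Subgroup.eq_of_le_of_card_ge h2 hcardL'.le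
      apply hgl
      rw [h3]
      exact ⟨l0, hl0, rfl⟩
    have hcomm : ∀ l ∈ L, ∀ m ∈ L', l * m = m * l := by
      intro l hl m hm
      have h1 : l * m * l⁻¹ * m⁻¹ ∈ L ⊓ L' := by
        constructor
        · have h2 := hLinv m (hL'S hm) l⁻¹ (L.inv_mem hl)
          have h3 := L.mul_mem hl h2
          have h4 : l * (m * l⁻¹ * m⁻¹) = l * m * l⁻¹ * m⁻¹ := by group
          rwa [h4] at h3
        · exact L'.mul_mem (hL'inv l (hLS hl) m hm) (L'.inv_mem hm)
      rw [hinf, Subgroup.mem_bot] at h1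
      calc l * m = (l * m * l⁻¹ * m⁻¹) * (m * l) := by group
        _ = m * l := by rw [h1, one_mul]
    -- an abelian `L` is impossible
    have hnab : ¬ ∀ a ∈ L, ∀ b ∈ L, a * b = b * a := by
      intro hab
      obtain ⟨P'⟩ : Nonempty (Sylow p L) := inferInstance
      have hP'n : (P' : Subgroup L).Normal := ⟨fun a ha b => by
        have h1 : b * a = a * b := Subtype.ext (hab b b.2 a a.2)
        rw [h1, mul_inv_cancel_right]; exact ha⟩
      have hchar : (P' : Subgroup L).Characteristic := Sylow.characteristic_of_normal P' hP'n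
      have hinv : Inv ((P' : Subgroup L).map L.subtype) := by
        rintro s hs _ ⟨n, hn, rfl⟩
        -- conjugation by `s` is an automorphism of `L`
        have hsL : ∀ l, l ∈ L ↔ s * l * s⁻¹ ∈ L := by
          intro l
          refine ⟨fun h => hLinv s hs l h, fun h => ?_⟩
          have h2 := hLinv s⁻¹ (S.inv_mem hs) _ h
          have e : s⁻¹ * (s * l * s⁻¹) * s⁻¹⁻¹ = l := by group
          rwa [e] at h2
        let φ : L ≃* L :=
          { toFun := fun l => ⟨s * l * s⁻¹, (hsL l).1 l.2⟩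
            invFun := fun l => ⟨s⁻¹ * l * s, (hsL _).2 (by
              have e : s * (s⁻¹ * (l : G) * s) * s⁻¹ = l := by group
              rw [e]; exact l.2)⟩
            left_inv := fun l => Subtype.ext (by change s⁻¹ * (s * l * s⁻¹) * s = l; group)
            right_inv := fun l => Subtype.ext (by change s * (s⁻¹ * l * s) * s⁻¹ = l; group)
            map_mul' := fun a b => Subtype.ext (by change s * (a * b) * s⁻¹ = (s * a * s⁻¹) * (s * b * s⁻¹); group) }
        have h3 := hchar.fixed φ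
        have h4 : n ∈ (P' : Subgroup L).comap φ.toMonoidHom := by rw [h3]; exact hn
        exact ⟨φ n, h4, rfl⟩
      by_cases hP'b : (P' : Subgroup L).map L.subtype = ⊥
      · have h1 : (P' : Subgroup L) = ⊥ := (Subgroup.map_eq_bot_iff_of_injective _ L.subtype_injective).1 hP'b
        have h2 := P'.not_dvd_index
        rw [h1, Subgroup.index_bot] at h2
        exact h2 hpL
      · have h1 := hLmin' _ (Subgroup.map_subtype_le _) hP'b hinv
        have hLp : IsPGroup p L := by
          rw [← h1]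
          exact P'.isPGroup'.map _
        have h1 : (L.subgroupOf S).Normal := by
          constructor
          intro l hl s
          exact hLinv s s.2 l hl
        have h3 := Lib.Cores.le_pCore (p := p) h1 (hLp.comap_of_injective _ S.subtype_injective)
        have h4 := Subgroup.map_mono (f := S.subtype) h3
        rw [Lib.Cores.map_subtype_pCore p hSn, hOp, inf_bot_eq, Subgroup.subgroupOf_map_subtype,
          inf_eq_left.2 hLS, le_bot_iff] at h4
        exact hL1 h4
    rcases hX with hC | hN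
    · -- one class
      obtain ⟨x, hxL, hx, hx1⟩ := exists_pel (p := p) (N := L) hpL
      obtain ⟨y, hyL', hy, hy1⟩ := exists_pel (p := p) (N := L') (by rw [hcardL']; exact hpL)
      have hxy1 : x * y ≠ 1 := by
        intro h1
        have h2 : y = x⁻¹ := (inv_eq_of_mul_eq_one_right h1).symm
        have h3 : y ∈ L ⊓ L' := ⟨by rw [h2]; exact L.inv_mem hxL, hyL'⟩
        rw [hinf, Subgroup.mem_bot] at h3
        exact hy1 h3
      have hxyc : x * y = y * x := hcomm x hxL y hyL'
      have hxy : PEl p (x * y) := by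
        have ex : x ^ p = 1 := Cfsg.Agent.H634.Fus.pow_eq_one hC hx
        have ey : y ^ p = 1 := Cfsg.Agent.H634.Fus.pow_eq_one hC hy
        apply PEl.of_pow
        rw [(show Commute x y from hxyc).mul_pow, ex, ey, one_mul]
      obtain ⟨k, hk⟩ := isConj_iff.1 (hC x (x * y) hx hx1 hxy hxy1)
      set L2 : Subgroup G := L.map (MulAut.conj k).toMonoidHom with hL2
      have hxyL2 : x * y ∈ L2 := ⟨x, hxL, hk⟩
      have hL2S : L2 ≤ S := by
        rintro _ ⟨l, hl, rfl⟩
        exact hSn.conj_mem l (hLS hl) k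
      have hL2inv : Inv L2 := by
        rintro s hs _ ⟨l, hl, rfl⟩
        refine ⟨(k⁻¹ * s * k) * l * (k⁻¹ * s * k)⁻¹, hLinv _ ?_ l hl, ?_⟩
        · have := hSn.conj_mem s hs k⁻¹
          rwa [inv_inv] at this
        · change k * ((k⁻¹ * s * k) * l * (k⁻¹ * s * k)⁻¹) * k⁻¹ = s * (k * l * k⁻¹) * s⁻¹
          group
      have hcardL2 : Nat.card L2 = Nat.card L := Subgroup.card_map_of_injective (MulAut.conj k).injective
      have hinf2 : L ⊓ L2 = ⊥ := by
        by_contra h0
        have h1 := hLmin' (L ⊓ L2) inf_le_left h0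
          (fun s hs l hl => ⟨hLinv s hs l hl.1, hL2inv s hs l hl.2⟩)
        have h2 : L ≤ L2 := by rw [← h1]; exact inf_le_right
        have h3 : L = L2 := Subgroup.eq_of_le_of_card_ge h2 hcardL2.le
        have h4 : x * y ∈ L := by rw [h3]; exact hxyL2
        have h5 : y ∈ L := (L.mul_mem_cancel_left hxL).1 h4
        have h6 : y ∈ L ⊓ L' := ⟨h5, hyL'⟩
        rw [hinf, Subgroup.mem_bot] at h6
        exact hy1 h6
      have hcomm2 : ∀ l ∈ L, ∀ m ∈ L2, l * m = m * l := by
        intro l hl m hm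
        have h1 : l * m * l⁻¹ * m⁻¹ ∈ L ⊓ L2 := by
          constructor
          · have h2 := hLinv m (hL2S hm) l⁻¹ (L.inv_mem hl)
            have h3 := L.mul_mem hl h2
            have h4 : l * (m * l⁻¹ * m⁻¹) = l * m * l⁻¹ * m⁻¹ := by group
            rwa [h4] at h3
          · exact L2.mul_mem (hL2inv l (hLS hl) m hm) (L2.inv_mem hm)
        rw [hinf2, Subgroup.mem_bot] at h1
        calc l * m = (l * m * l⁻¹ * m⁻¹) * (m * l) := by group
          _ = m * l := by rw [h1, one_mul]
      -- `x` centralizes `L`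
      have hxc : ∀ l ∈ L, l * x = x * l := by
        intro l hl
        have h1 := hcomm2 l hl (x * y) hxyL2
        have h2 := hcomm l hl y hyL'
        have h3 : l * x * y = x * l * y := by
          calc l * x * y = l * (x * y) := by group
            _ = x * y * l := h1
            _ = x * (l * y) := by rw [h2]; group
            _ = x * l * y := by group
        exact mul_right_cancel h3
      -- the centre of `L`
      let Z : Subgroup G :=
        { carrier := {z | z ∈ L ∧ ∀ l ∈ L, l * z = z * l}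
          mul_mem' := by
            rintro a b ⟨ha, ha'⟩ ⟨hb, hb'⟩
            refine ⟨L.mul_mem ha hb, fun l hl => ?_⟩
            rw [← mul_assoc, ha' l hl, mul_assoc, hb' l hl, mul_assoc]
          one_mem' := ⟨L.one_mem, fun l _ => by rw [mul_one, one_mul]⟩
          inv_mem' := by
            rintro a ⟨ha, ha'⟩
            refine ⟨L.inv_mem ha, fun l hl => ?_⟩
            have h1 := ha' l hl
            calc l * a⁻¹ = a⁻¹ * (a * l) * a⁻¹ := by group
              _ = a⁻¹ * (l * a) * a⁻¹ := by rw [h1]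
              _ = a⁻¹ * l := by group }
      have hZinv : Inv Z := by
        rintro s hs z ⟨hz, hz'⟩
        refine ⟨hLinv s hs z hz, fun l hl => ?_⟩
        have h1 : s⁻¹ * l * s ∈ L := by
          have := hLinv s⁻¹ (S.inv_mem hs) l hl
          rwa [inv_inv] at this
        have h2 := hz' _ h1
        calc l * (s * z * s⁻¹) = s * ((s⁻¹ * l * s) * z) * s⁻¹ := by group
          _ = s * (z * (s⁻¹ * l * s)) * s⁻¹ := by rw [h2]
          _ = s * z * s⁻¹ * l := by group
      have hZ1 : Z ≠ ⊥ := by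
        intro h0
        have h1 : x ∈ Z := ⟨hxL, hxc⟩
        rw [h0, Subgroup.mem_bot] at h1
        exact hx1 h1
      have hZL := hLmin' Z (fun z hz => hz.1) hZ1 hZinv
      apply hnab
      intro a ha b hb
      rw [← hZL] at hb
      exact hb.2 a ha
    -- `p`-nilpotent centralizers
    obtain ⟨x, hxL', hx, hx1⟩ := exists_pel (p := p) (N := L') (by rw [hcardL']; exact hpL)
    -- `L` has a normal `p`-complement
    let f : L →* ↥(Subgroup.centralizer ({x} : Set G)) :=
      { toFun := fun l => ⟨l, by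
          rw [Subgroup.mem_centralizer_singleton_iff]
          exact hcomm l l.2 x hxL'⟩
        map_one' := rfl
        map_mul' := fun _ _ => rfl }
    have hf : Function.Injective f := by
      intro a b hab
      apply Subtype.ext
      exact congrArg (fun z : ↥(Subgroup.centralizer ({x} : Set G)) => (z : G)) hab
    obtain ⟨N, hNn, hpN, k, hk⟩ := OddOrderLocal.NilpotentQuotient.exists_of_hasNormalPComplement
      (hasNormalPComplement_of_injective f hf (hN x hx hx1))
    have hmemN : ∀ y : L, ¬ p ∣ orderOf y → y ∈ N := by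
      intro y hy
      have h1 : orderOf (QuotientGroup.mk' N y) ∣ orderOf y := orderOf_map_dvd _ y
      have h2 : orderOf (QuotientGroup.mk' N y) ∣ p ^ k := by
        rw [← hk, Subgroup.index_eq_card]
        exact orderOf_dvd_natCard _
      have h3 : (orderOf y).Coprime (p ^ k) :=
        Nat.Coprime.pow_right _ (Nat.Coprime.symm ((Nat.Prime.coprime_iff_not_dvd hp.out).2 hy))
      have h4 : orderOf (QuotientGroup.mk' N y) = 1 := Nat.eq_one_of_dvd_coprimes h3 h1 h2
      rw [orderOf_eq_one_iff] at h4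
      exact (QuotientGroup.eq_one_iff y).1 h4
    have hNinv : Inv (N.map L.subtype) := by
      rintro s hs _ ⟨n, hn, rfl⟩
      refine ⟨⟨s * n * s⁻¹, hLinv s hs n n.2⟩, hmemN _ ?_, rfl⟩
      rw [← Subgroup.orderOf_coe]
      change ¬ p ∣ orderOf (s * (n : G) * s⁻¹)
      have h1 : orderOf (s * (n : G) * s⁻¹) = orderOf (n : G) :=
        MulEquiv.orderOf_eq (MulAut.conj s) (n : G)
      rw [h1, Subgroup.orderOf_coe]
      intro h2
      apply hpN
      have h3 := orderOf_dvd_natCard (⟨n, hn⟩ : N)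
      rw [← Subgroup.orderOf_coe] at h3
      exact h2.trans h3
    by_cases hN0 : N.map L.subtype = ⊥
    · have hN0' : N = ⊥ := (Subgroup.map_eq_bot_iff_of_injective _ L.subtype_injective).1 hN0
      rw [hN0', Subgroup.index_bot] at hk
      have hLp : IsPGroup p L := IsPGroup.of_card hk
      have h1 : (L.subgroupOf S).Normal := by
        constructor
        intro l hl s
        exact hLinv s s.2 l hl
      have h3 := Lib.Cores.le_pCore (p := p) h1 (hLp.comap_of_injective _ S.subtype_injective)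
      have h4 := Subgroup.map_mono (f := S.subtype) h3
      rw [Lib.Cores.map_subtype_pCore p hSn, hOp, inf_bot_eq, Subgroup.subgroupOf_map_subtype,
        inf_eq_left.2 hLS, le_bot_iff] at h4
      exact hL1 h4
    · have h1 := hLmin' _ (Subgroup.map_subtype_le _) hN0 hNinv
      apply hpN
      have h2 : Nat.card (N.map L.subtype) = Nat.card N :=
        Subgroup.card_map_of_injective L.subtype_injective
      rw [← h2, h1]
      exact hpL


/-! ### The index of `S C_G(P)` -/

/-- every coset of a normal subgroup of index prime to `p` contains a `p`-regular element -/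
theorem exists_regular (H : Subgroup G) [H.Normal] (hidx : ¬ p ∣ H.index) (g : G) :
    ∃ y : G, IsPRegular p y ∧ (y : G ⧸ H) = (g : G ⧸ H) := by
  obtain ⟨u, t, hut, hc, hu, ht, ⟨k, hk⟩, htp⟩ := Blocks.RegularCount.exists_pPart (p := p) g
  refine ⟨t, ?_, ?_⟩
  · exact htp
  · have h1 : orderOf (u : G ⧸ H) ∣ p ^ k := by
      rw [← hk]
      exact orderOf_map_dvd (QuotientGroup.mk' H) u
    have h2 : orderOf (u : G ⧸ H) ∣ H.index := by
      rw [Subgroup.index_eq_card]
      exact orderOf_dvd_natCard _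
    have h3 : (p ^ k).Coprime H.index := Nat.Coprime.pow_left _ ((Nat.Prime.coprime_iff_not_dvd hp.out).2 hidx)
    have h4 : orderOf (u : G ⧸ H) = 1 := Nat.eq_one_of_dvd_coprimes h3 h1 h2
    rw [orderOf_eq_one_iff] at h4
    rw [← hut, QuotientGroup.mk_mul, h4, one_mul]

/-- characters of `G/H` are independent on `p`-regular elements -/
theorem linearIndependent_infl (H : Subgroup G) [H.Normal] (hidx : ¬ p ∣ H.index) :
    LinearIndependent ℂ (fun χ : IrrCharacter (G ⧸ H) => pRegularPart p (infl H χ : G → ℂ)) := by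
  classical
  have := Fintype.ofFinite G
  have := Fintype.ofFinite (G ⧸ H)
  have : Finite (IrrCharacter (G ⧸ H)) := Characters.Core.finite_irr
  have := Fintype.ofFinite (IrrCharacter (G ⧸ H))
  have hli : LinearIndependent ℂ (fun χ : IrrCharacter (G ⧸ H) => (χ : G ⧸ H → ℂ)) :=
    Characters.Core.irr_linearIndependent
  rw [Fintype.linearIndependent_iff] at hli ⊢
  intro a ha
  apply hli a
  funext q
  obtain ⟨g, rfl⟩ := QuotientGroup.mk_surjective q
  obtain ⟨y, hy, hyg⟩ := exists_regular (p := p) H hidx g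
  have h1 := congrFun ha y
  rw [Finset.sum_apply] at h1 ⊢
  rw [Pi.zero_apply] at h1 ⊢
  rw [← h1, ← hyg]
  refine Finset.sum_congr rfl fun χ _ => ?_
  rw [Pi.smul_apply, Pi.smul_apply]
  unfold pRegularPart
  rw [if_pos hy, infl_apply]

/-- The elements in the kernel of all characters of the principal block. -/
theorem eq_one_of_kernel (hM : IsPModular p M) (hcore : pPrimeCore p G = ⊥) {y : G}
    (hy : ∀ χ ∈ principalBlock M G, (χ : G → ℂ) y = (χ : G → ℂ) 1) : y = 1 := by
  have hB : IsPBlock M (principalBlock M G) := ⟨⟨_, Characters.Core.isIrr_one⟩, rfl⟩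
  have h1 : (⟨fun _ => 1, Characters.Core.isIrr_one⟩ : IrrCharacter G) ∈ principalBlock M G :=
    Blocks.Osima.sameBlock_refl hM _
  obtain ⟨K, hKn, hK, hpK, -, -⟩ := Blocks.BlockKer.blockKer_result p M hM _ hB _ h1
  have h2 : K ≤ pPrimeCore p G := Lib.Cores.le_pPrimeCore hKn ((Nat.Prime.coprime_iff_not_dvd hp.out).2 hpK).symm
  have h3 : y ∈ (K : Set G) := by
    rw [hK]
    exact hy
  have h4 := h2 h3
  rw [hcore, Subgroup.mem_bot] at h4
  exact h4

theorem sup_eq_top (hM : IsPModular p M) (hcore : pPrimeCore p G = ⊥) (P : Sylow p G) (hOp : pCore p G = ⊥)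
    (hP1 : 1 < Nat.card P)
    (hl : blockRank p (principalBlock M G) = 2) {H : Subgroup G} (hHn : H.Normal) (hPH : (P : Subgroup G) ≤ H)
    (hCH : Subgroup.centralizer ((P : Subgroup G) : Set G) ≤ H) : H = ⊤ := by
  classical
  have := Fintype.ofFinite G
  have : Finite (IrrCharacter (G ⧸ H)) := Characters.Core.finite_irr
  have := Fintype.ofFinite (IrrCharacter (G ⧸ H))
  have hidx : ¬ p ∣ H.index := fun h => P.not_dvd_index (h.trans (Subgroup.index_dvd_of_le hPH))
  have hli := linearIndependent_infl (p := p) H hidx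
  have hmem : ∀ χ : IrrCharacter (G ⧸ H), infl H χ ∈ principalBlock M G := by
    intro χ
    refine S4626.result p M hM P H hidx hCH _ fun n hn => ?_
    rw [infl_apply, infl_apply, (QuotientGroup.eq_one_iff n).2 hn, QuotientGroup.mk_one]
  set V := Submodule.span ℂ ((fun χ : IrrCharacter G => pRegularPart p (χ : G → ℂ)) '' principalBlock M G) with hV
  have hle : Submodule.span ℂ (Set.range fun χ : IrrCharacter (G ⧸ H) => pRegularPart p (infl H χ : G → ℂ)) ≤ V := by
    rw [Submodule.span_le]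
    rintro _ ⟨χ, rfl⟩
    exact Submodule.subset_span ⟨_, hmem χ, rfl⟩
  have hcard := finrank_span_eq_card hli
  have hV2 : Module.finrank ℂ V = 2 := hl
  have hc2 : Fintype.card (IrrCharacter (G ⧸ H)) ≤ 2 := by
    rw [← hcard, ← hV2]
    exact Submodule.finrank_mono hle
  by_cases hc : Fintype.card (IrrCharacter (G ⧸ H)) = 2
  · exfalso
    have heq := Submodule.eq_of_le_of_finrank_eq hle (by rw [hcard, hc, hV2])
    have hker : ∀ h ∈ H, ¬ p ∣ orderOf h → h = 1 := by
      intro h hh hph
      apply eq_one_of_kernel hM hcore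
      intro χ hχ
      have h1 : pRegularPart p (χ : G → ℂ) ∈ V := Submodule.subset_span ⟨χ, hχ, rfl⟩
      rw [← heq] at h1
      let W : Submodule ℂ (G → ℂ) :=
        { carrier := {f | f h = f 1}
          add_mem' := by
            intro a b ha hb
            change a h + b h = a 1 + b 1
            rw [show a h = a 1 from ha, show b h = b 1 from hb]
          zero_mem' := rfl
          smul_mem' := by
            intro c a ha
            change c * a h = c * a 1
            rw [show a h = a 1 from ha] }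
      have h2 : Submodule.span ℂ (Set.range fun χ : IrrCharacter (G ⧸ H) =>
          pRegularPart p (infl H χ : G → ℂ)) ≤ W := by
        rw [Submodule.span_le]
        rintro _ ⟨ψ, rfl⟩
        change pRegularPart p (infl H ψ : G → ℂ) h = pRegularPart p (infl H ψ : G → ℂ) 1
        unfold pRegularPart
        rw [if_pos (show IsPRegular p h from hph), if_pos (show IsPRegular p (1 : G) by
          unfold IsPRegular; rw [orderOf_one]; exact hp.out.not_dvd_one), infl_apply, infl_apply,
          (QuotientGroup.eq_one_iff h).2 hh, QuotientGroup.mk_one]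
      have h3 : pRegularPart p (χ : G → ℂ) h = pRegularPart p (χ : G → ℂ) 1 := h2 h1
      unfold pRegularPart at h3
      rw [if_pos (show IsPRegular p h from hph), if_pos (show IsPRegular p (1 : G) by
          unfold IsPRegular; rw [orderOf_one]; exact hp.out.not_dvd_one)] at h3
      exact h3
    have hHp : IsPGroup p H := by
      have h1 : Nat.card H = p ^ (Nat.card H).primeFactorsList.length :=
        Nat.eq_prime_pow_of_unique_prime_dvd Nat.card_pos.ne' (by
          intro q hq hqd
          by_contra hqp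
          have := Fact.mk hq
          obtain ⟨x, hx⟩ := exists_prime_orderOf_dvd_card' (G := H) q hqd
          have h2 := hker x x.2 (by
            rw [Subgroup.orderOf_coe, hx]
            intro h3
            exact hqp ((Nat.prime_dvd_prime_iff_eq hp.out hq).1 h3).symm)
          have h3 : x = 1 := Subtype.ext h2
          rw [h3, orderOf_one] at hx
          exact hq.one_lt.ne hx)
      exact IsPGroup.of_card h1
    have h1 := Lib.Cores.le_pCore hHn hHp
    rw [hOp, le_bot_iff] at h1
    rw [h1, le_bot_iff] at hPH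
    have h2 : Nat.card P = 1 := by
      change Nat.card (P : Subgroup G) = 1
      rw [hPH]
      exact Subgroup.card_bot
    omega
  · have hc1 : Fintype.card (IrrCharacter (G ⧸ H)) ≤ 1 := by omega
    apply top_of_forall_ker H
    intro χ hχ
    obtain ⟨χ', rfl⟩ := exists_infl H χ hχ
    have h1 : χ' = ⟨fun _ => 1, Characters.Core.isIrr_one⟩ := Fintype.card_le_one_iff.1 hc1 _ _
    funext g
    rw [infl_apply, h1]

/-! ### The statement -/

theorem exists_simple_gen (hM : IsPModular p M) (hp2 : p ≠ 2) (hcore : pPrimeCore p G = ⊥)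
    (hX : OneClass p G ∨ NilCent p G) (P : Sylow p G)
    (hQ : ∀ N : Subgroup G, N.Normal → p ∣ Nat.card N → (P : Subgroup G) ≤ N)
    (h42 : 42 < Nat.card G) (hP1 : 1 < Nat.card P) (hcomm : ∀ a ∈ P, ∀ b ∈ P, a * b = b * a)
    (hk : Nat.card (principalBlock M G) = 4) (hl : blockRank p (principalBlock M G) = 2) :
    ∃ S : Subgroup G, S.Normal ∧ IsSimpleGroup S ∧ (¬ ∀ a b : S, a * b = b * a) ∧
      (P : Subgroup G) ≤ S ∧ S ⊔ Subgroup.centralizer ((P : Subgroup G) : Set G) = ⊤ ∧
      Nat.card (principalBlock M S) = 4 ∧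
      ∀ x ∈ P, ∀ y ∈ P, IsConj x y → ∃ s ∈ S, s * x * s⁻¹ = y := by
  classical
  have hPdvd : p ∣ Nat.card P := by
    obtain ⟨m, hm⟩ := P.isPGroup'.exists_card_eq
    rw [hm] at hP1 ⊢
    exact dvd_pow_self p (by rintro rfl; rw [pow_zero] at hP1; omega)
  have hpG : p ∣ Nat.card G := hPdvd.trans (Subgroup.card_subgroup_dvd_card _)
  have hOp : pCore p G = ⊥ := by
    by_contra hne
    have h1 : p ∣ Nat.card (pCore p G) := by
      obtain ⟨m, hm⟩ := (Lib.Cores.pCore_isPGroup (G := G) p).exists_card_eq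
      have h2 : Nat.card (pCore p G) ≠ 1 := fun h => hne (Subgroup.card_eq_one.1 h)
      rw [hm] at h2 ⊢
      exact dvd_pow_self p (by rintro rfl; rw [pow_zero] at h2; exact h2 rfl)
    have h2 : (P : Subgroup G) = pCore p G :=
      le_antisymm (hQ _ (Lib.Cores.pCore_normal p) h1) (Lib.Cores.pCore_le_sylow P)
    have h3 : (P : Subgroup G).Normal := by rw [h2]; exact Lib.Cores.pCore_normal p
    have h4 := card_le_of_normal hM hcore P h3 hk.le
    omega
  obtain ⟨S, hSn, hSs, hSna, hPS⟩ := exists_simple hcore hX hOp P hQ hpG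
  have hCn := Cfsg.Agent.H634.Simple.sup_normal hSn P hPS
  have htop := sup_eq_top hM hcore P hOp hP1 hl hCn (hPS.trans le_sup_left) le_sup_right
  have hidx : ¬ p ∣ S.index := fun h => P.not_dvd_index (h.trans (Subgroup.index_dvd_of_le hPS))
  refine ⟨S, hSn, hSs, hSna, hPS, htop, ?_, ?_⟩
  · -- restriction is a bijection of the principal blocks
    obtain ⟨h1, h2⟩ := S4551.result p M hM S hidx P htop
    rw [← hk]
    choose f hf hf' using h1
    choose g hg using h2
    refine Nat.card_congr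
      { toFun := fun θ => ⟨g θ θ.2, (hg θ θ.2).1.1⟩
        invFun := fun χ => ⟨f χ χ.2, hf χ χ.2⟩
        left_inv := ?_
        right_inv := ?_ }
    · rintro ⟨θ, hθ⟩
      apply Subtype.ext
      apply Subtype.ext
      funext n
      change (f (g θ hθ) _ : S → ℂ) n = (θ : S → ℂ) n
      rw [← hf', (hg θ hθ).1.2]
    · rintro ⟨χ, hχ⟩
      apply Subtype.ext
      change g (f χ hχ) (hf χ hχ) = χ
      exact ((hg (f χ hχ) (hf χ hχ)).2 χ ⟨hχ, hf' χ hχ⟩).symm
  · rintro x hx y hy hxy
    obtain ⟨k, hk'⟩ := isConj_iff.1 hxy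
    have hkt : k ∈ (S ⊔ Subgroup.centralizer ((P : Subgroup G) : Set G) : Subgroup G) := by
      rw [htop]; trivial
    obtain ⟨s, hs, c, hc, rfl⟩ := Subgroup.mem_sup_of_normal_left.1 hkt
    refine ⟨s, hs, ?_⟩
    have h1 : c * x * c⁻¹ = x := by
      have h2 := Subgroup.mem_centralizer_iff.1 hc x hx
      rw [← h2, mul_inv_cancel_right]
    rw [← hk']
    calc s * x * s⁻¹ = s * (c * x * c⁻¹) * s⁻¹ := by rw [h1]
      _ = s * c * x * (s * c)⁻¹ := by group

end Cfsg.Agent.H627.ExSimpleGen
end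
end
end
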